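import Groth.Agent.L14.RedLR.Unip
import Groth.Agent.L25.Bridge.Spec
import Groth.Agent.L25.Extend.EtaleSplit
import Groth.Agent.L25.Locus.Torus
import Groth.Agent.L25.GrpDeriv
import Groth.Agent.L18.GIT.TorusChars
import Groth.Agent.S0348
import Mathlib.GroupTheory.FiniteAbelian.Duality
import Mathlib.Algebra.Module.CharacterModule
import Mathlib.RingTheory.RootsOfUnity.AlgebraicallyClosed
import Mathlib.AlgebraicGeometry.Morphisms.Smooth

/-!
# Reductive groups over algebraically closed fields of characteristic zero are linearly reductive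
-/

set_option autoImplicit false
set_option linter.style.haveILetI false
set_option backward.isDefEq.respectTransparency false
set_option backward.isDefEq.respectTransparency.types false
universe u

open CategoryTheory CategoryTheory.Limits MonoidalCategory CartesianMonoidalCategory MonObj AlgebraicGeometry
open TensorProduct WithConv

noncomputable section

namespace Groth.L14.RedLR

open Groth.L08.HomSpace Groth.L01.NormalHopf Groth.L08
open Groth.L25.Bridge (P)

variable {K : Type u} [Field K]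

section Torus

variable [IsAlgClosed K]

/-- A torus over an algebraically closed field is split with finitely generated characters. -/
theorem exists_split_fg (T : Over (Spec (CommRingCat.of K))) [GrpObj T] (hT : Red.IsTorus T) :
    ∃ (M : Type) (_ : AddCommGroup M), AddGroup.FG M ∧
      Nonempty (Grp.mk T ≅ Grp.mk (Red.DS (Spec (CommRingCat.of K)) M)) := by
  obtain ⟨S', f, hf, ⟨s', -⟩, M, _, hfg, ⟨e⟩⟩ :=
    Groth.L25.Extend.exists_etale_split (Groth.L25.Locus.isMultTypeFT_of_isTorus hT) (IsLocalRing.closedPoint K)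
  have : JacobsonSpace S' := LocallyOfFiniteType.jacobsonSpace f
  obtain ⟨x, -, hx⟩ := nonempty_inter_closedPoints (X := S') (Z := Set.univ) ⟨s', trivial⟩ isOpen_univ.isLocallyClosed
  let σ := pointOfClosedPoint f x hx
  have hσ : σ ≫ f = 𝟙 (Spec (CommRingCat.of K)) := pointOfClosedPoint_comp f x hx
  refine ⟨M, inferInstance, hfg, ⟨?_⟩⟩
  exact (Functor.mapGrpIdIso.app (Grp.mk T)).symm ≪≫
    (Functor.mapGrpNatIso (Over.pullbackId (X := Spec (CommRingCat.of K))).symm).app (Grp.mk T) ≪≫
    (Grp.mkIso' (ActBC.bcCompIso σ f T hσ)).symm ≪≫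
    (Over.pullback σ).mapGrp.mapIso e ≪≫
    Grp.mkIso' (ActBC.bcCompIso σ (Limits.IsTerminal.from specULiftZIsTerminal S') (Red.diag (ULift.{u} ℤ) M)
      (specULiftZIsTerminal.hom_ext _ _))

/-- A non-trivial finitely generated group has a non-trivial homomorphism of finite order to the units. -/
theorem exists_hom_finite_order [CharZero K] (M : Type) [AddCommGroup M] [AddGroup.FG M] {x : M} (hx : x ≠ 0) :
    ∃ (φ : Multiplicative M →* Kˣ) (m : ℕ), m ≠ 0 ∧ φ ^ m = 1 ∧ φ ≠ 1 := by
  obtain ⟨c, hc⟩ := CharacterModule.exists_character_apply_ne_zero_of_ne_zero hx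
  let c' : M →+ AddCircle (1 : ℚ) := c
  haveI : AddGroup.FG c'.range := AddGroup.fg_range c'
  have htor : AddMonoid.IsTorsion c'.range := by
    rintro ⟨q, hq⟩
    rw [isOfFinAddOrder_iff_nsmul_eq_zero]
    obtain ⟨r, rfl⟩ := QuotientAddGroup.mk_surjective q
    refine ⟨r.den, r.pos, Subtype.ext ?_⟩
    show r.den • ((r : ℚ) : AddCircle (1 : ℚ)) = 0
    rw [← AddCircle.coe_nsmul, AddCircle.coe_eq_zero_iff]
    exact ⟨r.num, by simp [nsmul_eq_mul, Rat.mul_den_eq_num, mul_comm]⟩
  haveI : Finite c'.range := AddCommGroup.finite_of_fg_torsion _ htor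
  let H := Multiplicative c'.range
  have ha : (Multiplicative.ofAdd (⟨c' x, x, rfl⟩ : c'.range) : H) ≠ 1 := fun h =>
    hc (congrArg Subtype.val (Multiplicative.ofAdd.injective h))
  haveI : Finite H := inferInstanceAs (Finite c'.range)
  haveI : NeZero (Monoid.exponent H) := ⟨Monoid.exponent_ne_zero_of_finite⟩
  obtain ⟨ψ, hψ⟩ := CommGroup.exists_apply_ne_one_of_hasEnoughRootsOfUnity H K ha
  refine ⟨ψ.comp c'.rangeRestrict.toMultiplicative, Monoid.exponent H, Monoid.exponent_ne_zero_of_finite, ?_,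
    fun h => hψ ?_⟩
  · refine MonoidHom.ext fun y => ?_
    rw [MonoidHom.pow_apply, MonoidHom.comp_apply, ← map_pow, Monoid.pow_exponent_eq_one, map_one, MonoidHom.one_apply]
  · exact DFunLike.congr_fun h (Multiplicative.ofAdd x)

theorem mapMulEquiv_pow_comp {A B R : Type u} [CommRing A] [HopfAlgebra K A] [CommRing B] [HopfAlgebra K B]
    [CommRing R] [Algebra K R] (j : P K A ⟶ P K B) [IsMonHom j] (t : WithConv (A →ₐ[K] R)) (m : ℕ)
    (ψ : WithConv (B →ₐ[K] R)) (h : Spec.mapMulEquiv t ≫ j = Spec.mapMulEquiv ψ) :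
    Spec.mapMulEquiv (t ^ m) ≫ j = Spec.mapMulEquiv (ψ ^ m) := by
  induction m with
  | zero => rw [pow_zero, pow_zero, map_one, map_one, MonObj.one_comp]
  | succ m ih => rw [pow_succ, pow_succ, map_mul, map_mul, MonObj.mul_comp, ih, h]

/-- A group whose points have no torsion contains no torus. -/
theorem hasNoSubtorus_of_torsionFree [CharZero K] {B : Type u} [CommRing B] [HopfAlgebra K B]
    (h : ∀ (ψ : WithConv (B →ₐ[K] K)) (m : ℕ), m ≠ 0 → ψ ^ m = 1 → ψ = 1) :
    Red.HasNoSubtorus K (P K B) := by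
  intro T _ j _ _ hT
  obtain ⟨M, _, hfg, ⟨e⟩⟩ := exists_split_fg T hT
  haveI := hfg
  let C := MonoidAlgebra K (Multiplicative M)
  let e' : Grp.mk T ≅ Grp.mk (P K C) := e ≪≫ Groth.L25.Bridge.dsIso K M
  let f : P K C ⟶ T := e'.inv.hom.hom
  let g : T ⟶ P K C := e'.hom.hom.hom
  have hfg' : f ≫ g = 𝟙 _ := congrArg (fun z => z.hom.hom) e'.inv_hom_id
  have hgf : g ≫ f = 𝟙 _ := congrArg (fun z => z.hom.hom) e'.hom_inv_id
  haveI : IsMonHom f := e'.inv.hom.isMonHom_hom
  haveI : IsIso f := ⟨g, hfg', hgf⟩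
  have hM : ∀ x : M, x = 0 := by
    intro x
    by_contra hx
    obtain ⟨φ, m, hm, hφm, hφ1⟩ := exists_hom_finite_order (K := K) M hx
    let t : WithConv (C →ₐ[K] K) := toConv (MonoidAlgebra.lift K K (Multiplicative M) ((Units.coeHom K).comp φ))
    have hone : ∀ y : Multiplicative M, (1 : WithConv (C →ₐ[K] K)).ofConv (MonoidAlgebra.of K _ y) = 1 := by
      intro y; simp; exact (MonoidAlgebra.counit_single y (1:K)).trans rfl
    have hpow : ∀ (n : ℕ) (y : Multiplicative M),
        (t ^ n).ofConv (MonoidAlgebra.of K _ y) = ((φ y ^ n : Kˣ) : K) := by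
      intro n y
      induction n with
      | zero => rw [pow_zero, hone, pow_zero, Units.val_one]
      | succ n ih =>
        rw [pow_succ, AlgHom.convMul_apply]
        have e1 : Coalgebra.comul (R := K) (MonoidAlgebra.of K (Multiplicative M) y) =
            MonoidAlgebra.of K _ y ⊗ₜ[K] MonoidAlgebra.of K _ y := by simp
        rw [e1, Algebra.TensorProduct.lift_tmul, ih, pow_succ (φ y), Units.val_mul]
        congr 1
        simp [t]; exact (MonoidAlgebra.lift_single _ _ _).trans (one_smul _ _)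
    have htm : t ^ m = 1 := by
      refine WithConv.ofConv_injective (MonoidAlgebra.algHom_ext (fun y => ?_) (Subsingleton.elim _ _))
      change (t ^ m).ofConv (MonoidAlgebra.of K _ y) = (1 : WithConv (C →ₐ[K] K)).ofConv (MonoidAlgebra.of K _ y)
      rw [hpow, hone, ← MonoidHom.pow_apply, hφm, MonoidHom.one_apply, Units.val_one]
    obtain ⟨ψ, hψ⟩ := (Spec.mapMulEquiv (R := K) (S := B) (T := K)).surjective (Spec.mapMulEquiv t ≫ f ≫ j)
    have hψ1 : ψ = 1 := by
      refine h ψ m hm (Spec.mapMulEquiv.injective ?_)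
      rw [← mapMulEquiv_pow_comp (f ≫ j) t m ψ hψ.symm, htm, map_one, map_one, MonObj.one_comp]
    have ht1 : t = 1 := by
      apply Spec.mapMulEquiv.injective
      rw [← cancel_mono (f ≫ j), ← hψ, hψ1, map_one, map_one, MonObj.one_comp]
    refine hφ1 (MonoidHom.ext fun y => Units.ext ?_)
    have := hpow 1 y
    rw [pow_one, pow_one, ht1, hone] at this
    exact this.symm
  haveI : IsIso (P K C).hom := by
    have hb : Function.Bijective (algebraMap K C) := by
      refine ⟨(algebraMap K C).injective, fun z => ?_⟩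
      induction z using MonoidAlgebra.induction_on with
      | of y => exact ⟨1, by rw [map_one, show y = 1 from Multiplicative.toAdd.injective (hM _), map_one]⟩
      | add a b ha hb =>
        obtain ⟨a', rfl⟩ := ha
        obtain ⟨b', rfl⟩ := hb
        exact ⟨a' + b', map_add _ _ _⟩
      | smul r a ha =>
        obtain ⟨a', rfl⟩ := ha
        exact ⟨r * a', by rw [map_mul, Algebra.smul_def]⟩
    haveI : IsIso (CommRingCat.ofHom (algebraMap K C)) := by
      rw [ConcreteCategory.isIso_iff_bijective]; exact hb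
    exact inferInstanceAs (IsIso (Spec.map (CommRingCat.ofHom (algebraMap K C))))
  change IsIso T.hom
  haveI : IsIso g.left := inferInstanceAs (IsIso ((Over.forget _).map g))
  rw [← Over.w g]
  infer_instance

end Torus

variable [CharZero K]

theorem isDomain_of_connected {A : Type u} [CommRing A] [HopfAlgebra K A] [Algebra.FiniteType K A]
    [ConnectedSpace ↥(Spec (CommRingCat.of A))] : IsDomain A := by
  haveI : ConnectedSpace ↥(P K A).left := ‹ConnectedSpace ↥(Spec (CommRingCat.of A))›
  haveI : IrreducibleSpace ↥(Spec (CommRingCat.of A)) := Groth.Agent.S0348.result K (P K A)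
  haveI : _root_.IsReduced A := CartierRed.isReduced_of_charZero (k := K)
  haveI : IsReduced (Spec (CommRingCat.of A)) := inferInstance
  exact (affine_isIntegral_iff (CommRingCat.of A)).1 (isIntegral_of_irreducibleSpace_of_isReduced _)

theorem finiteType_of_smooth {A : Type u} [CommRing A] [HopfAlgebra K A] (h : Smooth (P K A).hom) :
    Algebra.FiniteType K A := by
  have h1 : LocallyOfFiniteType (Spec.map (CommRingCat.ofHom (algebraMap K A))) :=
    haveI := h
    inferInstanceAs (LocallyOfFiniteType (P K A).hom)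
  rw [HasRingHomProperty.Spec_iff (P := @LocallyOfFiniteType), CommRingCat.hom_ofHom,
    RingHom.finiteType_algebraMap] at h1
  exact h1

variable [IsAlgClosed K]

/-- **Reductive implies linearly reductive.** -/
theorem isLinearlyReductive_of_isReductiveOver {A : Type u} [CommRing A] [HopfAlgebra K A]
    (hR : Red.IsReductiveOver K (P K A)) : HopfRep.IsLinearlyReductive K A := by
  obtain ⟨-, hsm, hconn, hrad⟩ := hR
  haveI : Algebra.FiniteType K A := finiteType_of_smooth hsm
  haveI : ConnectedSpace ↥(Spec (CommRingCat.of A)) := hconn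
  haveI : IsDomain A := isDomain_of_connected (K := K)
  obtain ⟨V, hV⟩ := exists_unipotent_fixator (k := K) (A := A)
  haveI : Algebra.FiniteType K (A ⧸ fixI V) :=
    Algebra.FiniteType.of_surjective (Ideal.Quotient.mkₐ K (fixI V)) Ideal.Quotient.mk_surjective
  let i : P K (A ⧸ fixI V) ⟶ P K A := Spec.mapMulEquiv (toConv (Ideal.Quotient.mkₐ K (fixI V)))
  haveI : IsMonHom i := by
    have h := isMonHom_mapMulEquiv (k := K) (Bialgebra.Quotient.mkBialgHom (R := K) (fixI V))
    have e : ((Bialgebra.Quotient.mkBialgHom (R := K) (fixI V) : A →ₐc[K] A ⧸ fixI V) : A →ₐ[K] A ⧸ fixI V) =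
        Ideal.Quotient.mkₐ K (fixI V) := AlgHom.ext fun _ => rfl
    rw [e] at h
    exact h
  have hcl : IsClosedImmersion i.left :=
    IsClosedImmersion.spec_of_surjective _ (by exact Ideal.Quotient.mk_surjective)
  haveI := hcl
  haveI : Mono i := Over.mono_of_mono_left i
  have hfac : ∀ (R : Type u) [CommRing R] [Algebra K R] (g : WithConv (A →ₐ[K] R)),
      (∃ z : specOf K R ⟶ specOf K (A ⧸ fixI V), z ≫ i = Spec.mapMulEquiv g) ↔ ∀ a ∈ fixI V, g.ofConv a = 0 := by
    intro R _ _ g
    constructor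
    · rintro ⟨z, hz⟩ a ha
      obtain ⟨l, rfl⟩ := (Spec.mapMulEquiv (R := K) (S := A ⧸ fixI V) (T := R)).surjective z
      rw [mapMulEquiv_comp] at hz
      rw [← Spec.mapMulEquiv.injective hz]
      exact (congrArg l.ofConv (Ideal.Quotient.eq_zero_iff_mem.2 ha : Ideal.Quotient.mkₐ K (fixI V) a = 0)).trans
        (map_zero _)
    · intro hg
      exact ⟨Spec.mapMulEquiv (toConv (Ideal.Quotient.liftₐ (fixI V) g.ofConv hg)),
        (mapMulEquiv_comp _ _).trans (congrArg Spec.mapMulEquiv (WithConv.ofConv_injective (AlgHom.ext fun a => rfl)))⟩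
  have hN : AlgGrp.IsNormalHom i := by
    intro T g n
    obtain ⟨z, hz⟩ := exists_lift_of_cover_mono i (g * (n ≫ i) * g⁻¹) fun R _ _ t => by
      obtain ⟨g', hg'⟩ := (Spec.mapMulEquiv (R := K) (S := A) (T := R)).surjective (t ≫ g)
      obtain ⟨n', hn'⟩ := (Spec.mapMulEquiv (R := K) (S := A) (T := R)).surjective (t ≫ n ≫ i)
      have hkill : ∀ a ∈ fixI V, n'.ofConv a = 0 := (hfac R n').1 ⟨t ≫ n, by rw [hn', Category.assoc]⟩
      have hinv : Spec.mapMulEquiv (pinv g') = (Spec.mapMulEquiv g')⁻¹ :=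
        (inv_eq_of_mul_eq_one_left (((map_mul _ _ _).symm.trans (congrArg _ (pinv_mul g'))).trans (map_one _))).symm
      obtain ⟨w, hw⟩ := (hfac R _).2 (conj_kills (isNormal_fixI V) g' n' hkill)
      exact ⟨w, by rw [hw, map_mul, map_mul, hinv, hg', hn', MonObj.comp_mul, MonObj.comp_mul, GrpObj.comp_inv]⟩
    exact ⟨z, hz.symm⟩
  have hnt : Nontrivial (A ⧸ fixI V) := (Bialgebra.counitAlgHom K (A ⧸ fixI V)).toRingHom.domain_nontrivial
  have hc : ConnectedSpace ↥(P K (A ⧸ fixI V)).left := by
    change ConnectedSpace (PrimeSpectrum (A ⧸ fixI V))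
    rw [connectedSpace_iff_clopen]
    refine ⟨inferInstance, fun s hs => ?_⟩
    obtain ⟨e, he, hse⟩ := PrimeSpectrum.isClopen_iff.1 hs
    rcases idem_eq V hV he with rfl | rfl
    · exact Or.inl (by rw [hse]; simp)
    · exact Or.inr (by rw [hse]; simp)
  have hs : Smooth (P K (A ⧸ fixI V)).hom := by
    haveI : LocallyOfFiniteType (P K (A ⧸ fixI V)).hom :=
      inferInstanceAs (LocallyOfFiniteType (Spec (CommRingCat.of (A ⧸ fixI V)) ↘ Spec (CommRingCat.of K)))
    letI : GrpObj (Over.mk (P K (A ⧸ fixI V)).hom) := inferInstanceAs (GrpObj (P K (A ⧸ fixI V)))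
    exact Groth.L25.GrpDeriv.smooth_of_charZero _
  have htf : Red.HasNoSubtorus K (P K (A ⧸ fixI V)) := by
    refine hasNoSubtorus_of_torsionFree fun ψ m hm hψ => ?_
    let χ : A →ₐ[K] K := ψ.ofConv.comp (Ideal.Quotient.mkₐ K (fixI V))
    have hpre : ∀ n : ℕ, toConv χ ^ n = toConv ((ψ ^ n).ofConv.comp (Ideal.Quotient.mkₐ K (fixI V))) := by
      intro n
      induction n with
      | zero => refine WithConv.ofConv_injective (AlgHom.ext fun a => ?_); (simp <;> rfl)
      | succ n ih =>
        rw [pow_succ, pow_succ, ih]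
        exact (Groth.L01.NormalHopf.pre_mul (Bialgebra.Quotient.mkBialgHom (R := K) (fixI V)) (ψ ^ n) ψ).symm
    have h1 : toConv χ ^ m = 1 := by
      rw [hpre, hψ]; refine WithConv.ofConv_injective (AlgHom.ext fun a => ?_); (simp <;> rfl)
    have h2 := eq_one_of_pow_eq_one (hV χ ((kills_iff V χ).1 fun a ha => by
      simp [χ, Ideal.Quotient.eq_zero_iff_mem.2 ha])) hm h1
    refine WithConv.ofConv_injective (AlgHom.ext fun a => ?_)
    obtain ⟨a, rfl⟩ := Ideal.Quotient.mkₐ_surjective K (fixI V) a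
    have h3 := congrArg (fun z : WithConv (A →ₐ[K] K) => z.ofConv a) h2
    refine h3.trans ?_
    (simp <;> rfl)
  have htriv : IsIso (P K (A ⧸ fixI V)).hom := hrad _ i hcl hs hc hN htf
  refine isLinearlyReductive_of_fixI_eq V (le_antisymm (fun a ha => counit_fixI V ha) fun a ha => ?_)
  haveI : IsIso (Spec.map (CommRingCat.ofHom (algebraMap K (A ⧸ fixI V)))) := htriv
  have hb : Function.Bijective (algebraMap K (A ⧸ fixI V)) := by
    haveI : IsIso (Scheme.Spec.map (CommRingCat.ofHom (algebraMap K (A ⧸ fixI V))).op) := htriv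
    haveI := isIso_of_reflects_iso (CommRingCat.ofHom (algebraMap K (A ⧸ fixI V))).op Scheme.Spec
    haveI := isIso_of_op (CommRingCat.ofHom (algebraMap K (A ⧸ fixI V)))
    exact (ConcreteCategory.isIso_iff_bijective (CommRingCat.ofHom (algebraMap K (A ⧸ fixI V)))).1 inferInstance
  obtain ⟨c, hc⟩ := hb.2 (Ideal.Quotient.mkₐ K (fixI V) a)
  have h0 := congrArg (Coalgebra.counit (R := K) (A := A ⧸ fixI V)) hc
  rw [Bialgebra.counit_algebraMap] at h0
  have h1 : c = 0 := h0.trans (by exact ha)
  rw [h1, map_zero] at hc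
  exact Ideal.Quotient.eq_zero_iff_mem.1 hc.symm

end Groth.L14.RedLR
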