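import Groth.Agent.L14.RedLR.Over
import Groth.Agent.S18813

/-!
# Reductive groups over fields of characteristic zero are linearly reductive
-/

set_option autoImplicit false
set_option linter.style.haveILetI false
set_option backward.isDefEq.respectTransparency false
set_option backward.isDefEq.respectTransparency.types false
universe u

open CategoryTheory CategoryTheory.Limits MonoidalCategory CartesianMonoidalCategory MonObj AlgebraicGeometry
open TensorProduct

noncomputable section

namespace Groth.L14.RedLR

open Groth.L25.Bridge (P)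

theorem isReductiveOver_congr {K : Type u} [Field K] {G G' : Over (Spec (CommRingCat.of K))} [GrpObj G] [GrpObj G']
    (e : Grp.mk G ≅ Grp.mk G') (h : Red.IsReductiveOver K G) : Red.IsReductiveOver K G' := by
  let f : G ⟶ G' := e.hom.hom.hom
  let g : G' ⟶ G := e.inv.hom.hom
  have hfg : f ≫ g = 𝟙 G := congrArg (fun z => z.hom.hom) e.hom_inv_id
  have hgf : g ≫ f = 𝟙 G' := congrArg (fun z => z.hom.hom) e.inv_hom_id
  haveI : IsMonHom f := e.hom.hom.isMonHom_hom
  haveI : IsMonHom g := e.inv.hom.isMonHom_hom
  haveI : IsIso f := ⟨g, hfg, hgf⟩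
  haveI : IsIso g := ⟨f, hgf, hfg⟩
  haveI : IsIso f.left := inferInstanceAs (IsIso ((Over.forget _).map f))
  haveI : IsIso g.left := inferInstanceAs (IsIso ((Over.forget _).map g))
  obtain ⟨ha, hs, hc, hr⟩ := h
  haveI := ha
  haveI := hs
  refine ⟨IsAffine.of_isIso g.left, ?_, ?_, ?_⟩
  · rw [← Over.w g]; infer_instance
  · exact (f.left.homeomorph).surjective.connectedSpace f.left.continuous
  · intro U _ i _ hci hUs hUc hN hT
    haveI := hci
    refine hr U (i ≫ g) ?_ hUs hUc ?_ hT
    · rw [Over.comp_left]; infer_instance
    · intro T x n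
      obtain ⟨n', hn'⟩ := hN T (x ≫ f) n
      refine ⟨n', ?_⟩
      rw [← Category.assoc, ← Category.assoc, ← hn', MonObj.mul_comp, MonObj.mul_comp, GrpObj.inv_comp,
        Category.assoc x, hfg, Category.comp_id]

/-- **Reductive groups in characteristic zero are linearly reductive.** -/
theorem isLinearlyReductive_of_isReductive {k : Type u} [Field k] [CharZero k] {A : Type u} [CommRing A]
    [HopfAlgebra k A] (hG : Red.IsReductive (P k A)) : HopfRep.IsLinearlyReductive k A := by
  let s : ↥(Spec (CommRingCat.of k)) := IsLocalRing.closedPoint k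
  let K := AlgebraicClosure ((Spec (CommRingCat.of k)).residueField s)
  letI : Algebra k K := (Spec.preimage (Red.geomPt s)).hom.toAlgebra
  have hθ : Red.geomPt s = Spec.map (CommRingCat.ofHom (algebraMap k K)) := (Spec.map_preimage _).symm
  haveI : CharZero K := charZero_of_injective_algebraMap (algebraMap k K).injective
  refine (Groth.Agent.S18813.result k K A).2 (isLinearlyReductive_of_isReductiveOver ?_)
  exact isReductiveOver_congr (Groth.L25.Bridge.bcIso' A hθ) (hG.2.2 s)

end Groth.L14.RedLR
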