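import Groth.Agent.L14.RedLR.Weyl
import Mathlib.Algebra.Lie.Quotient
import Mathlib.LinearAlgebra.Semisimple
import Mathlib.RingTheory.Artinian.Module
import Mathlib.RingTheory.SimpleModule.Basic
import Mathlib.Algebra.Algebra.Subalgebra.Lattice

/-!
# Complete reducibility for Lie algebras with central radical acting semisimply
-/

set_option autoImplicit false
set_option linter.style.haveILetI false
universe u v w

open Module LieModule LieAlgebra

namespace Groth.L14.RedLR

attribute [local instance] LieRing.ofAssociativeRing LieAlgebra.ofAssociativeAlgebra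

variable {k : Type u} [Field k] {L : Type v} [LieRing L] [LieAlgebra k L] [Module.Finite k L]

/-- The quotient by the radical has trivial radical. -/
theorem hasTrivialRadical_quot : HasTrivialRadical k (L ⧸ radical k L) := by
  refine hasTrivialRadical_of_no_solvable_ideals fun I hI => ?_
  let π : L →ₗ⁅k⁆ (L ⧸ radical k L) :=
    { LieSubmodule.Quotient.mk' (radical k L) with
      map_lie' := fun {x y} => rfl }
  have hπ : Function.Surjective π := LieSubmodule.Quotient.surjective_mk' _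
  have hker : ∀ x, π x = 0 ↔ x ∈ radical k L := fun x => LieSubmodule.Quotient.mk_eq_zero'
  let J : LieIdeal k L := I.comap π
  have hmap : ∀ j, (derivedSeriesOfIdeal k L j J).map π ≤ derivedSeriesOfIdeal k (L ⧸ radical k L) j I := by
    intro j
    induction j with
    | zero => exact LieIdeal.map_comap_le
    | succ j ih =>
      rw [derivedSeriesOfIdeal_succ, derivedSeriesOfIdeal_succ]
      exact (LieIdeal.map_bracket_le π).trans (LieSubmodule.mono_lie ih ih)
  obtain ⟨j, hj⟩ := IsSolvable.solvable k I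
  rw [LieIdeal.derivedSeries_eq_bot_iff] at hj
  have hD : derivedSeriesOfIdeal k L j J ≤ radical k L := fun x hx => by
    have : π x ∈ derivedSeriesOfIdeal k (L ⧸ radical k L) j I := hmap j (LieIdeal.mem_map hx)
    rw [hj, LieSubmodule.mem_bot] at this
    exact (hker x).1 this
  haveI : IsSolvable (radical k L) := inferInstance
  obtain ⟨m, hm⟩ := IsSolvable.solvable k (radical k L)
  rw [LieIdeal.derivedSeries_eq_bot_iff] at hm
  haveI : IsSolvable J := IsSolvable.mk (k := m + j) ((LieIdeal.derivedSeries_eq_bot_iff J _).2 (by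
    rw [derivedSeriesOfIdeal_add, eq_bot_iff, ← hm]
    exact derivedSeriesOfIdeal_mono hD m))
  rw [LieSubmodule.eq_bot_iff]
  intro y hy
  obtain ⟨x, rfl⟩ := hπ y
  exact (hker x).2 ((LieIdeal.solvable_iff_le_radical k L J).1 inferInstance hy)

variable {W : Type w} [AddCommGroup W] [Module k W] [Module.Finite k W] [LieRingModule L W] [LieModule k L W]

/-- A projection on a submodule commuting with a commuting family of semisimple endomorphisms. -/
theorem exists_proj [PerfectField k] (s : Set (Module.End k W))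
    (hcomm : ∀ a ∈ s, ∀ b ∈ s, a * b = b * a) (hss : ∀ a ∈ s, a.IsSemisimple)
    (U : Submodule k W) (hU : ∀ a ∈ s, ∀ u ∈ U, a u ∈ U) :
    ∃ φ : Module.End k W, (∀ w, φ w ∈ U) ∧ (∀ u ∈ U, φ u = u) ∧ ∀ a ∈ s, a * φ = φ * a := by
  let S := Algebra.adjoin k s
  letI : CommRing S := Algebra.adjoinCommRingOfComm k hcomm
  have hsemi : ∀ a ∈ S, Module.End.IsSemisimple a := by
    intro a ha
    induction ha using Algebra.adjoin_induction with
    | mem x hx => exact hss x hx
    | algebraMap r =>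
      refine Module.End.isSemisimple_of_squarefree_aeval_eq_zero (p := Polynomial.X - Polynomial.C r) ?_ ?_
      · exact (Polynomial.irreducible_X_sub_C r).squarefree
      · simp
    | add x y hx hy h1 h2 =>
      exact Module.End.IsSemisimple.add_of_commute (congrArg Subtype.val (mul_comm (⟨x, hx⟩ : S) ⟨y, hy⟩)) h1 h2
    | mul x y hx hy h1 h2 =>
      exact Module.End.IsSemisimple.mul_of_commute (congrArg Subtype.val (mul_comm (⟨x, hx⟩ : S) ⟨y, hy⟩)) h1 h2
  haveI : IsReduced S := ⟨fun a ha => Subtype.ext (Module.End.eq_zero_of_isNilpotent_isSemisimple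
    (ha.map S.val) (hsemi _ a.2))⟩
  haveI : IsArtinianRing S := IsArtinianRing.of_finite k S
  haveI : IsSemisimpleRing S := IsArtinianRing.isSemisimpleRing_of_isReduced S
  have hUS : ∀ a : S, ∀ u ∈ U, (a : Module.End k W) u ∈ U := by
    rintro ⟨a, ha⟩
    induction ha using Algebra.adjoin_induction with
    | mem x hx => exact hU x hx
    | algebraMap r => exact fun u hu => U.smul_mem r hu
    | add x y hx hy h1 h2 => exact fun u hu => add_mem (h1 u hu) (h2 u hu)
    | mul x y hx hy h1 h2 => exact fun u hu => h1 _ (h2 u hu)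
  let U' : Submodule S W :=
    { U.toAddSubmonoid with
      smul_mem' := fun a u hu => hUS a u hu }
  obtain ⟨Q, hQ⟩ := exists_isCompl U'
  let f : W →ₗ[S] W := U'.subtype ∘ₗ U'.projectionOnto Q hQ
  refine ⟨f.restrictScalars k, fun w => (U'.projectionOnto Q hQ w).2, fun u hu => ?_, fun a ha => ?_⟩
  · change ((U'.projectionOnto Q hQ u : U') : W) = u
    rw [Submodule.projectionOnto_apply_left hQ ⟨u, hu⟩]
  · refine LinearMap.ext fun w => ?_
    exact (f.map_smul (⟨a, Algebra.subset_adjoin ha⟩ : S) w).symm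

/-- **Complete reducibility.** -/
theorem exists_complement [CharZero k]
    (hcent : ∀ z ∈ radical k L, ∀ x : L, ⁅x, z⁆ = 0)
    (hss : ∀ z ∈ radical k L, (toEnd k L W z).IsSemisimple)
    (U : LieSubmodule k L W) : ∃ U' : LieSubmodule k L W, IsCompl U U' := by
  classical
  by_cases hU0 : U = ⊥
  · exact ⟨⊤, hU0 ▸ isCompl_bot_top⟩
  have hcomm : ∀ z ∈ radical k L, ∀ (x : L) (w : W), ⁅x, ⁅z, w⁆⁆ = ⁅z, ⁅x, w⁆⁆ := fun z hz x w => by
    rw [leibniz_lie, hcent z hz x, zero_lie, zero_add]
  obtain ⟨φ₀, hφU, hφid, hφR⟩ := exists_proj (toEnd k L W '' (radical k L : Set L))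
    (by
      rintro _ ⟨a, ha, rfl⟩ _ ⟨b, hb, rfl⟩
      exact LinearMap.ext fun w => (hcomm a ha b w).symm)
    (by rintro _ ⟨a, ha, rfl⟩; exact hss a ha) U.toSubmodule
    (by rintro _ ⟨a, -, rfl⟩ u hu; exact U.lie_mem hu)
  let E : LieSubmodule k L (W →ₗ[k] W) :=
    { carrier := {φ | (∀ w, φ w ∈ U) ∧ (∀ z ∈ radical k L, ∀ w, ⁅z, φ w⁆ = φ ⁅z, w⁆) ∧
        ∃ c : k, ∀ u ∈ U, φ u = c • u}
      zero_mem' := ⟨fun _ => zero_mem U, fun z _ _ => lie_zero z, 0, fun u _ => (zero_smul k u).symm⟩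
      add_mem' := by
        rintro φ ψ ⟨a1, a2, c, a3⟩ ⟨b1, b2, d, b3⟩
        exact ⟨fun w => add_mem (a1 w) (b1 w), fun z hz w => by simp [lie_add, a2 z hz, b2 z hz],
          c + d, fun u hu => by simp [a3 u hu, b3 u hu, add_smul]⟩
      smul_mem' := by
        rintro r φ ⟨a1, a2, c, a3⟩
        exact ⟨fun w => U.smul_mem r (a1 w), fun z hz w => by simp [lie_smul, a2 z hz],
          r * c, fun u hu => by simp [a3 u hu, mul_smul]⟩
      lie_mem := by
        rintro x φ ⟨a1, a2, c, a3⟩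
        refine ⟨fun w => ?_, fun z hz w => ?_, 0, fun u hu => ?_⟩
        · rw [LieHom.lie_apply]
          exact sub_mem (U.lie_mem (a1 w)) (a1 _)
        · rw [LieHom.lie_apply, LieHom.lie_apply, lie_sub, ← hcomm z hz, a2 z hz, a2 z hz, hcomm z hz]
        · rw [LieHom.lie_apply, a3 u hu, a3 _ (U.lie_mem hu), lie_smul, sub_self, zero_smul] }
  have hRE : radical k L ≤ (toEnd k L E).ker := by
    intro z hz
    rw [LieHom.mem_ker]
    refine LinearMap.ext fun φ => Subtype.ext (LinearMap.ext fun w => ?_)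
    change ⁅z, (φ : W →ₗ[k] W)⁆ w = 0
    rw [LieHom.lie_apply, φ.2.2.1 z hz, sub_self]
  let f₀ : (L ⧸ radical k L) →ₗ[k] Module.End k E :=
    (radical k L).toSubmodule.liftQ (toEnd k L E : L →ₗ[k] Module.End k E) fun z hz => hRE hz
  let f : (L ⧸ radical k L) →ₗ⁅k⁆ Module.End k E :=
    { f₀ with
      map_lie' := fun {x y} => by
        obtain ⟨x, rfl⟩ := LieSubmodule.Quotient.surjective_mk' _ x
        obtain ⟨y, rfl⟩ := LieSubmodule.Quotient.surjective_mk' _ y
        exact LieHom.map_lie (toEnd k L E) x y }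
  letI : LieRingModule (L ⧸ radical k L) E := LieRingModule.compLieHom E f
  haveI : LieModule k (L ⧸ radical k L) E := LieModule.compLieHom E f
  haveI : HasTrivialRadical k (L ⧸ radical k L) := hasTrivialRadical_quot
  have hact : ∀ (x : L) (φ : E), ⁅(LieSubmodule.Quotient.mk' (radical k L) x), φ⁆ = ⁅x, φ⁆ := fun x φ => rfl
  let E₀ : LieSubmodule k (L ⧸ radical k L) E :=
    { carrier := {φ | ∀ u ∈ U, (φ : W →ₗ[k] W) u = 0}
      zero_mem' := fun u _ => rfl
      add_mem' := fun {a b} ha hb u hu => by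
        rw [LieSubmodule.coe_add, LinearMap.add_apply, ha u hu, hb u hu, add_zero]
      smul_mem' := fun r a ha u hu => by
        rw [SetLike.val_smul, LinearMap.smul_apply, ha u hu, smul_zero]
      lie_mem := fun {x a} ha u hu => by
        obtain ⟨x, rfl⟩ := LieSubmodule.Quotient.surjective_mk' _ x
        rw [hact, LieSubmodule.coe_bracket, LieHom.lie_apply, ha u hu, ha _ (U.lie_mem hu), lie_zero, sub_self] }
  obtain ⟨v, hv, hinv⟩ := exists_invariant E₀ (fun h => by
    have hmem : (⟨φ₀, hφU, fun z hz w => LinearMap.congr_fun (hφR _ ⟨z, hz, rfl⟩) w, 1,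
      fun u hu => by rw [hφid u hu, one_smul]⟩ : E) ∈ E₀ := h ▸ LieSubmodule.mem_top _
    refine hU0 ((LieSubmodule.eq_bot_iff U).2 fun u hu => ?_)
    rw [← hφid u hu]
    exact hmem u hu) (fun x a u hu => by
      obtain ⟨x, rfl⟩ := LieSubmodule.Quotient.surjective_mk' _ x
      obtain ⟨c, hc⟩ := a.2.2.2
      rw [hact, LieSubmodule.coe_bracket, LieHom.lie_apply, hc u hu, hc _ (U.lie_mem hu), lie_smul, sub_self])
  obtain ⟨c, hc⟩ := v.2.2.2
  have hc0 : c ≠ 0 := fun h => hv fun u hu => by rw [hc u hu, h, zero_smul]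
  have hL : ∀ (x : L) (w : W), ⁅x, (v : W →ₗ[k] W) w⁆ = (v : W →ₗ[k] W) ⁅x, w⁆ := fun x w => by
    have := LinearMap.congr_fun (congrArg Subtype.val (hinv (LieSubmodule.Quotient.mk' _ x))) w
    rw [hact, LieSubmodule.coe_bracket, LieHom.lie_apply] at this
    exact sub_eq_zero.1 this
  refine ⟨{ toSubmodule := LinearMap.ker (v : W →ₗ[k] W), lie_mem := fun {x m} hm => ?_ }, ?_⟩
  · rw [AddSubsemigroup.mem_carrier, AddSubmonoid.mem_toSubsemigroup, Submodule.mem_toAddSubmonoid,
      LinearMap.mem_ker] at hm ⊢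
    rw [← hL, hm, lie_zero]
  · refine IsCompl.of_eq (eq_bot_iff.2 ?_) (eq_top_iff.2 ?_)
    · rintro w ⟨hw1, hw2⟩
      have hw2' : (v : W →ₗ[k] W) w = 0 := hw2
      rw [hc w hw1, smul_eq_zero] at hw2'
      exact (LieSubmodule.mem_bot w).2 (hw2'.resolve_left hc0)
    · intro w _
      refine (LieSubmodule.mem_sup _ _ _).2 ⟨c⁻¹ • (v : W →ₗ[k] W) w, U.smul_mem _ (v.2.1 w),
        w - c⁻¹ • (v : W →ₗ[k] W) w, ?_, by abel⟩
      change (v : W →ₗ[k] W) _ = 0
      rw [map_sub, map_smul, hc _ (v.2.1 w), smul_smul, inv_mul_cancel₀ hc0, one_smul, sub_self]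

end Groth.L14.RedLR
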