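import Groth.Agent.L14.RedLR.Derivs
import Groth.Agent.L14.RedLR.LieSS
import Mathlib.Algebra.Lie.LieTheorem
import Mathlib.FieldTheory.IsAlgClosed.Basic
import Mathlib.LinearAlgebra.Eigenspace.Semisimple
import Mathlib.RingTheory.Bialgebra.GroupLike

/-!
# A connected group with a faithful semisimple representation is linearly reductive
-/

set_option autoImplicit false
set_option linter.style.haveILetI false
universe u w

open TensorProduct WithConv Module

noncomputable section

namespace Groth.L14.RedLR

open Groth.L08 LieAlgebra LieModule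

attribute [local instance] LieRing.ofAssociativeRing LieAlgebra.ofAssociativeAlgebra

variable {k : Type u} [Field k] {A : Type u} [CommRing A] [HopfAlgebra k A]

variable (k A) in
/-- The matrix coefficients. -/
def coeffSet (V : Type u) [AddCommGroup V] [Module k V] [HopfRep.Comod k A V] : Set A :=
  {a | ∃ (f : Module.Dual k V) (v : V), cf (A := A) f v = a}

variable (k A) in
/-- The coefficients together with the group-like functions inverse to them generate. -/
def Generates (V : Type u) [AddCommGroup V] [Module k V] [HopfRep.Comod k A V] : Prop :=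
  Algebra.adjoin k (coeffSet k A V ∪
    {g | IsGroupLikeElem k g ∧ ∃ c ∈ Algebra.adjoin k (coeffSet k A V), c * g = 1}) = ⊤

theorem lie_apply_groupLike (X : lieA k A) {g : A} (hg : IsGroupLikeElem k g) :
    (X : Module.End k A) g = dd X g • g := by
  have e : HopfRep.Comod.coact (k := k) (A := A) g = g ⊗ₜ[k] g := hg.comul_eq_tmul_self
  rw [coe_eq_fAct, fAct_apply, e]
  simp

variable {V : Type u} [AddCommGroup V] [Module k V] [HopfRep.Comod k A V]

/-- Faithfulness. -/
theorem eq_zero_of_rho (hgen : Generates k A V) {X : lieA k A} (h : rho k A V X = 0) : X = 0 := by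
  have h1 : ∀ a ∈ coeffSet k A V, dd X a = 0 := by
    rintro a ⟨f, v, rfl⟩
    change Coalgebra.counit (R := k) ((X : Module.End k A) (cf f v)) = 0
    rw [cf_rho, h, LinearMap.zero_apply, map_zero, map_zero]
  have h2 : ∀ a ∈ Algebra.adjoin k (coeffSet k A V), dd X a = 0 := by
    intro a ha
    induction ha using Algebra.adjoin_induction with
    | mem x hx => exact h1 x hx
    | algebraMap r => rw [Algebra.algebraMap_eq_smul_one, map_smul, (isTan_dd X).map_one, smul_zero]
    | add x y _ _ a1 a2 => rw [map_add, a1, a2, add_zero]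
    | mul x y _ _ a1 a2 => rw [isTan_dd X x y, a1, a2, mul_zero, mul_zero, add_zero]
  refine dd_eq_zero_of_gens hgen ?_
  rintro a (ha | ⟨hg, c, hc, hcg⟩)
  · exact h1 a ha
  · have h3 := isTan_dd X c a
    rw [hcg, (isTan_dd X).map_one, h2 c hc, mul_zero, add_zero] at h3
    refine (mul_eq_zero.1 h3.symm).resolve_left fun h0 => one_ne_zero (α := k) ?_
    rw [← Bialgebra.counit_one (R := k) (A := A), ← hcg, Bialgebra.counit_mul, h0, zero_mul]

/-- Invariant derivations that are semisimple on a generating comodule are semisimple on every comodule. -/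
theorem isSemisimple_rho [PerfectField k] (hgen : Generates k A V) {X : lieA k A}
    (hX : ⨆ μ : k, (rho k A V X).eigenspace μ = ⊤)
    (W : Type w) [AddCommGroup W] [Module k W] [Module.Finite k W] [HopfRep.Comod k A W] :
    (rho k A W X).IsSemisimple := by
  classical
  set T : Module.End k A := (X : Module.End k A) with hT
  let P : Submodule k A := ⨆ μ : k, T.eigenspace μ
  have hmul : ∀ a ∈ P, ∀ b ∈ P, a * b ∈ P := by
    intro a ha
    induction ha using Submodule.iSup_induction' with
    | mem μ a ha =>
      intro b hb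
      induction hb using Submodule.iSup_induction' with
      | mem ν b hb =>
        refine Submodule.mem_iSup_of_mem (μ + ν) ?_
        rw [Module.End.mem_eigenspace_iff] at ha hb ⊢
        rw [hT, apply_mul, ← hT, ha, hb, mul_smul_comm, mul_smul_comm, mul_comm b a, ← add_smul, add_comm ν μ]
      | zero => rw [mul_zero]; exact zero_mem _
      | add x y _ _ h1 h2 => rw [mul_add]; exact add_mem h1 h2
    | zero => intro b _; rw [zero_mul]; exact zero_mem _
    | add x y _ _ h1 h2 => intro b hb; rw [add_mul]; exact add_mem (h1 b hb) (h2 b hb)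
  have h1P : (1 : A) ∈ P := by
    refine Submodule.mem_iSup_of_mem 0 ?_
    rw [Module.End.mem_eigenspace_iff, zero_smul, hT, lie_apply_groupLike X (IsGroupLikeElem.one : IsGroupLikeElem k (1 : A)),
      (isTan_dd X).map_one, zero_smul]
  have hcoeff : ∀ (f : Module.Dual k V) (v : V), cf (A := A) f v ∈ P := by
    intro f v
    have hv : v ∈ ⨆ μ : k, (rho k A V X).eigenspace μ := hX ▸ Submodule.mem_top
    induction hv using Submodule.iSup_induction' with
    | mem μ v hv =>
      refine Submodule.mem_iSup_of_mem μ ?_
      rw [Module.End.mem_eigenspace_iff] at hv ⊢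
      rw [hT, cf_rho, hv, map_smul]
    | zero => rw [map_zero]; exact zero_mem _
    | add x y _ _ h1 h2 => rw [map_add]; exact add_mem h1 h2
  have htop : ∀ a : A, a ∈ P := by
    intro a
    have ha : a ∈ Algebra.adjoin k (coeffSet k A V ∪
      {g | IsGroupLikeElem k g ∧ ∃ c ∈ Algebra.adjoin k (coeffSet k A V), c * g = 1}) := hgen ▸ Algebra.mem_top
    induction ha using Algebra.adjoin_induction with
    | mem x hx =>
      rcases hx with ⟨f, v, rfl⟩ | ⟨hg, -⟩
      · exact hcoeff f v
      · refine Submodule.mem_iSup_of_mem (dd X x) ?_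
        rw [Module.End.mem_eigenspace_iff, hT]
        exact lie_apply_groupLike X hg
    | algebraMap r => rw [Algebra.algebraMap_eq_smul_one]; exact P.smul_mem r h1P
    | add x y _ _ a1 a2 => exact add_mem a1 a2
    | mul x y _ _ a1 a2 => exact hmul x a1 y a2
  let b := finBasis k W
  have hfin : ∀ i j, ∃ s : Finset k, cf (A := A) (b.coord i) (b j) ∈ ⨆ μ ∈ s, T.eigenspace μ := fun i j =>
    Submodule.exists_finset_of_mem_iSup _ (htop _)
  choose s hs using hfin
  let S : Finset k := Finset.univ.biUnion fun i => Finset.univ.biUnion fun j => s i j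
  let p : Polynomial k := ∏ μ ∈ S, (Polynomial.X - Polynomial.C μ)
  have hsq : Squarefree p :=
    (Polynomial.separable_prod_X_sub_C_iff'.2 fun x _ y _ h => h).squarefree
  refine Module.End.isSemisimple_of_squarefree_aeval_eq_zero (p := p) hsq ?_
  have hT0 : ∀ i j, Polynomial.aeval T p (cf (A := A) (b.coord i) (b j)) = 0 := by
    intro i j
    have hle : (⨆ μ ∈ s i j, T.eigenspace μ) ≤ LinearMap.ker (Polynomial.aeval T p) := by
      refine iSup₂_le fun μ hμ a ha => ?_
      rw [LinearMap.mem_ker, Module.End.aeval_apply_of_mem_apply_eq_smul (Module.End.mem_eigenspace_iff.1 ha)]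
      have hμS : μ ∈ S := Finset.mem_biUnion.2 ⟨i, Finset.mem_univ i, Finset.mem_biUnion.2 ⟨j, Finset.mem_univ j, hμ⟩⟩
      rw [show p.eval μ = 0 by
        rw [Polynomial.eval_prod]; exact Finset.prod_eq_zero hμS (by simp), zero_smul]
    exact hle (hs i j)
  have hcomm : ∀ (q : Polynomial k) (f : Module.Dual k W) (v : W),
      Polynomial.aeval T q (cf (A := A) f v) = cf f (Polynomial.aeval (rho k A W X) q v) := by
    intro q f
    induction q using Polynomial.induction_on with
    | C r => intro v; simp [Polynomial.aeval_C, Module.algebraMap_end_apply]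
    | add q1 q2 h1 h2 => intro v; simp only [map_add, LinearMap.add_apply, h1, h2]
    | monomial n r h =>
      intro v
      rw [pow_succ, ← mul_assoc, map_mul, map_mul _ (Polynomial.C r * Polynomial.X ^ n), Polynomial.aeval_X,
        Polynomial.aeval_X, Module.End.mul_apply, Module.End.mul_apply, hT, cf_rho, ← hT, h]
  refine b.ext fun j => b.ext_elem fun i => ?_
  rw [LinearMap.zero_apply, map_zero, Finsupp.zero_apply, ← Basis.coord_apply]
  have := congrArg (Coalgebra.counit (R := k) (A := A)) (hT0 i j)
  rw [hcomm, apply_cf, fAct_counit, map_zero] at this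
  exact this

/-- Solvable ideals act by scalars on irreducible submodules. -/
theorem exists_scalar {L : Type*} [LieRing L] [LieAlgebra k L] [Module.Finite k L] [IsAlgClosed k] [CharZero k]
    {M : Type*} [AddCommGroup M] [Module k M] [Module.Finite k M] [LieRingModule L M] [LieModule k L M]
    [IsIrreducible k L M] (z : L) (hz : z ∈ radical k L) : ∃ c : k, ∀ m : M, ⁅z, m⁆ = c • m := by
  have _i := nontrivial_of_isIrreducible k L M
  obtain ⟨χ, hχ⟩ : ∃ χ : Module.Dual k (radical k L), Nontrivial (weightSpace M χ) :=
    exists_nontrivial_weightSpace_of_isSolvable k (radical k L) M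
  let N : LieSubmodule k L M := weightSpaceOfIsLieTower k M χ
  replace hχ : Nontrivial N := hχ
  replace hχ : N = ⊤ := N.eq_top_of_isIrreducible k L M
  refine ⟨χ ⟨z, hz⟩, fun m => ?_⟩
  have : ∀ (y : L) (hy : y ∈ radical k L), ⁅y, m⁆ = χ ⟨y, hy⟩ • m := by
    simpa [N, weightSpaceOfIsLieTower, mem_weightSpace] using (hχ ▸ LieSubmodule.mem_top _ : m ∈ N)
  exact this z hz

variable [IsAlgClosed k] [CharZero k] [Algebra.FiniteType k A]

/-- **Linear reductivity from a faithful semisimple representation.** -/
theorem isLinearlyReductive_of_semisimple [IsDomain A] [Module.Finite k V]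
    (hV : HopfRep.IsSemisimpleComod k A V) (hgen : Generates k A V) : HopfRep.IsLinearlyReductive k A := by
  classical
  have hsep := sep_of_isDomain (k := k) (A := A)
  letI : LieRingModule (lieA k A) V := LieRingModule.compLieHom V (rho k A V)
  haveI : LieModule k (lieA k A) V := LieModule.compLieHom V (rho k A V)
  have hsub : ∀ U : LieSubmodule k (lieA k A) V, HopfRep.IsSubcomod (k := k) (A := A) U.toSubmodule :=
    fun U => isSubcomod_of_stable hsep fun X v hv => U.lie_mem (x := X) hv
  -- the sum of the irreducible submodules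
  let good : Set V := {v | ∃ M : LieSubmodule k (lieA k A) V, v ∈ M ∧ IsIrreducible k (lieA k A) M}
  have htop : Submodule.span k good = ⊤ := by
    by_contra hne
    have hst : ∀ (X : lieA k A), ∀ v ∈ Submodule.span k good, rho k A V X v ∈ Submodule.span k good := by
      intro X v hv
      refine Submodule.span_induction ?_ ?_ ?_ ?_ hv
      · rintro x ⟨M, hx, hM⟩
        exact Submodule.subset_span ⟨M, M.lie_mem (x := X) hx, hM⟩
      · rw [map_zero]; exact zero_mem _
      · intro x y _ _ h1 h2; rw [map_add]; exact add_mem h1 h2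
      · intro c x _ h1; rw [map_smul]; exact Submodule.smul_mem _ c h1
    obtain ⟨C, hC, hcompl⟩ := hV _ (isSubcomod_of_stable hsep hst)
    have hex : ∃ n, ∃ M : LieSubmodule k (lieA k A) V, M ≠ ⊥ ∧ M.toSubmodule ≤ C ∧ finrank k M = n := by
      refine ⟨_, { toSubmodule := C, lie_mem := fun {X v} hv => fAct_mem_of_isSubcomod hC (dd X) hv }, ?_, le_rfl, rfl⟩
      intro h
      apply hne
      have hC0 : C = ⊥ := congrArg LieSubmodule.toSubmodule h
      simpa [hC0] using hcompl.sup_eq_top
    obtain ⟨M, hM0, hMC, hMn⟩ := Nat.find_spec hex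
    have hirr : IsIrreducible k (lieA k A) M := by
      haveI : Nontrivial M := (LieSubmodule.nontrivial_iff_ne_bot k (lieA k A) V).2 hM0
      refine LieModule.IsIrreducible.mk fun U hU => ?_
      by_contra hUtop
      have hlt : finrank k (U.map M.incl) < Nat.find hex := by
        rw [← hMn]
        have e : finrank k (U.map M.incl : LieSubmodule k (lieA k A) V) = finrank k U :=
          (Submodule.equivMapOfInjective M.toSubmodule.subtype Subtype.val_injective U.toSubmodule).finrank_eq.symm
        rw [e]
        exact Submodule.finrank_lt fun h => hUtop ((LieSubmodule.toSubmodule_eq_top U).1 h)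
      refine Nat.find_min hex hlt ⟨U.map M.incl, ?_, ?_, rfl⟩
      · intro h
        refine hU ((LieSubmodule.eq_bot_iff U).2 fun u hu => Subtype.ext ?_)
        have : (u : V) ∈ U.map M.incl := ⟨u, hu, rfl⟩
        rw [h, LieSubmodule.mem_bot] at this
        exact this
      · rintro _ ⟨u, -, rfl⟩
        exact hMC u.2
    obtain ⟨v, hv, hv0⟩ := (Submodule.ne_bot_iff _).1 fun h => hM0 ((LieSubmodule.toSubmodule_eq_bot M).1 h)
    exact hv0 ((Submodule.disjoint_def.1 hcompl.disjoint) v (Submodule.subset_span ⟨M, hv, hirr⟩) (hMC hv))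
  have hscal : ∀ z ∈ radical k (lieA k A), ∀ v ∈ good, ∃ c : k, rho k A V z v = c • v ∧
      ∀ X : lieA k A, rho k A V z (rho k A V X v) = c • rho k A V X v := by
    rintro z hz v ⟨M, hv, hM⟩
    haveI := hM
    obtain ⟨c, hc⟩ := exists_scalar (M := M) z hz
    exact ⟨c, congrArg Subtype.val (hc ⟨v, hv⟩), fun X => congrArg Subtype.val (hc ⟨_, M.lie_mem (x := X) hv⟩)⟩
  have hcent : ∀ z ∈ radical k (lieA k A), ∀ X : lieA k A, ⁅X, z⁆ = 0 := by
    intro z hz X
    refine eq_zero_of_rho hgen (LinearMap.ext_on htop fun v hv => ?_)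
    obtain ⟨c, hc, hc'⟩ := hscal z hz v hv
    rw [LieHom.map_lie, LieRing.of_associative_ring_bracket, LinearMap.sub_apply, Module.End.mul_apply,
      Module.End.mul_apply, hc, map_smul, hc', sub_self, LinearMap.zero_apply]
  have hssV : ∀ z ∈ radical k (lieA k A), ⨆ μ : k, (rho k A V z).eigenspace μ = ⊤ := by
    intro z hz
    rw [eq_top_iff, ← htop, Submodule.span_le]
    intro v hv
    obtain ⟨c, hc, -⟩ := hscal z hz v hv
    exact Submodule.mem_iSup_of_mem c (Module.End.mem_eigenspace_iff.2 hc)
  intro W _ _ _ hW U hU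
  letI : LieRingModule (lieA k A) W := LieRingModule.compLieHom W (rho k A W)
  haveI : LieModule k (lieA k A) W := LieModule.compLieHom W (rho k A W)
  obtain ⟨U', hU'⟩ := exists_complement (L := lieA k A) (W := W) hcent
    (fun z hz => isSemisimple_rho hgen (hssV z hz) W)
    { toSubmodule := U, lie_mem := fun {X v} hv => fAct_mem_of_isSubcomod hU (dd X) hv }
  exact ⟨U'.toSubmodule, isSubcomod_of_stable hsep fun X v hv => U'.lie_mem (x := X) hv,
    LieSubmodule.isCompl_toSubmodule.2 hU'⟩

end Groth.L14.RedLR
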