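import Groth.Agent.L08.Basic
import Mathlib.Algebra.Lie.OfAssociative
import Mathlib.Algebra.Lie.Semisimple.Defs
import Mathlib.LinearAlgebra.Dual.Lemmas
import Mathlib.RingTheory.Filtration
import Mathlib.RingTheory.FiniteType

/-!
# The Lie algebra of invariant derivations and its action on comodules
-/

set_option autoImplicit false
set_option linter.style.haveILetI false
universe u w

open TensorProduct WithConv

noncomputable section

namespace Groth.L14.RedLR

open Groth.L08

attribute [local instance] LieRing.ofAssociativeRing LieAlgebra.ofAssociativeAlgebra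

variable {k : Type u} [Field k] {A : Type u} [CommRing A] [HopfAlgebra k A]

local notation "ε" => (Coalgebra.counit (R := k) (A := A))

/-- A tangent vector at the origin. -/
def IsTan (D : A →ₗ[k] k) : Prop := ∀ a b : A, D (a * b) = ε a * D b + ε b * D a

theorem IsTan.map_one {D : A →ₗ[k] k} (hD : IsTan D) : D 1 = 0 := by
  have := hD 1 1
  rw [mul_one, Bialgebra.counit_one, one_mul] at this
  simpa using this

theorem counit_fAct (φ : A →ₗ[k] k) (a : A) : ε (fAct A φ a) = φ a := by
  rw [← apply_cf (A := A)]
  congr 1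
  rw [cf_apply]
  change TensorProduct.lid k A ((ε).rTensor A (Coalgebra.comul (R := k) a)) = a
  rw [Coalgebra.rTensor_counit_comul]
  simp

theorem fAct_tan_mul {D : A →ₗ[k] k} (hD : IsTan D) (a b : A) :
    fAct A D (a * b) = a * fAct A D b + b * fAct A D a := by
  have key : ∀ x y : A ⊗[k] A, TensorProduct.rid k A (D.lTensor A (x * y)) =
      TensorProduct.rid k A ((ε).lTensor A x) * TensorProduct.rid k A (D.lTensor A y) +
        TensorProduct.rid k A ((ε).lTensor A y) * TensorProduct.rid k A (D.lTensor A x) := by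
    intro x y
    induction x using TensorProduct.induction_on with
    | zero => simp
    | add p q hp hq => simp only [add_mul, map_add, hp, hq]; ring
    | tmul p q =>
      induction y using TensorProduct.induction_on with
      | zero => simp
      | add p' q' hp hq => simp only [mul_add, map_add, hp, hq]; ring
      | tmul p' q' =>
        simp only [Algebra.TensorProduct.tmul_mul_tmul, LinearMap.lTensor_tmul, TensorProduct.rid_tmul,
          hD q q', Algebra.smul_def, map_add, map_mul]
        ring
  have hc : ∀ c : A, TensorProduct.rid k A ((ε).lTensor A (HopfRep.Comod.coact (k := k) (A := A) c)) = c :=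
    fun c => by rw [← fAct_apply, fAct_counit, LinearMap.id_apply]
  have hm : HopfRep.Comod.coact (k := k) (A := A) (a * b) =
      HopfRep.Comod.coact (k := k) (A := A) a * HopfRep.Comod.coact (k := k) (A := A) b :=
    Bialgebra.comul_mul a b
  rw [fAct_apply, hm, key, hc, hc, ← fAct_apply, ← fAct_apply]

variable (k A) in
/-- Left invariant derivations. -/
def lieA : LieSubalgebra k (Module.End k A) where
  carrier := {T | IsTan ((ε).comp T) ∧ T = fAct A ((ε).comp T)}
  zero_mem' := ⟨fun a b => by simp, by
    rw [LinearMap.comp_zero]; exact ((fActL (k := k) (A := A) A).map_zero).symm⟩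
  add_mem' := by
    rintro S T ⟨hS, eS⟩ ⟨hT, eT⟩
    refine ⟨fun a b => ?_, ?_⟩
    · have h1 := hS a b
      have h2 := hT a b
      simp only [LinearMap.comp_apply, LinearMap.add_apply, map_add] at h1 h2 ⊢
      rw [h1, h2]; ring
    · rw [LinearMap.comp_add]
      refine Eq.trans ?_ ((fActL (k := k) (A := A) A).map_add _ _).symm
      exact congrArg₂ (· + ·) eS eT
  smul_mem' := by
    rintro c T ⟨hT, eT⟩
    refine ⟨fun a b => ?_, ?_⟩
    · have h2 := hT a b
      simp only [LinearMap.comp_apply, LinearMap.smul_apply, map_smul, smul_eq_mul] at h2 ⊢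
      rw [h2]; ring
    · rw [LinearMap.comp_smul]
      refine Eq.trans ?_ ((fActL (k := k) (A := A) A).map_smul _ _).symm
      exact congrArg (c • ·) eT
  lie_mem' := by
    rintro S T ⟨hS, eS⟩ ⟨hT, eT⟩
    have dS : ∀ a b, S (a * b) = a * S b + b * S a := fun a b => by rw [eS]; exact fAct_tan_mul hS a b
    have dT : ∀ a b, T (a * b) = a * T b + b * T a := fun a b => by rw [eT]; exact fAct_tan_mul hT a b
    constructor
    · intro a b
      rw [LieRing.of_associative_ring_bracket]
      simp only [LinearMap.comp_apply, LinearMap.sub_apply, Module.End.mul_apply, dT, dS, map_sub, map_add,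
        Bialgebra.counit_mul]
      ring
    · set φ := toConv ((ε).comp S)
      set ψ := toConv ((ε).comp T)
      have e : ⁅S, T⁆ = fAct A (φ * ψ - ψ * φ).ofConv := by
        refine Eq.trans ?_ ((fActL (k := k) (A := A) A).map_sub (φ * ψ).ofConv (ψ * φ).ofConv).symm
        rw [LieRing.of_associative_ring_bracket]
        refine congrArg₂ (· - ·) ?_ ?_
        · refine Eq.trans ?_ (fAct_mul φ ψ).symm
          exact congrArg₂ (fun p q => p ∘ₗ q) eS eT
        · refine Eq.trans ?_ (fAct_mul ψ φ).symm
          exact congrArg₂ (fun p q => p ∘ₗ q) eT eS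
      rw [e]
      congr 1
      exact LinearMap.ext fun a => (counit_fAct _ a).symm

/-- The functional of an invariant derivation. -/
def dd (X : lieA k A) : A →ₗ[k] k := (ε).comp (X : Module.End k A)

theorem isTan_dd (X : lieA k A) : IsTan (dd X) := X.2.1

theorem coe_eq_fAct (X : lieA k A) : (X : Module.End k A) = fAct A (dd X) := X.2.2

theorem apply_mul (X : lieA k A) (a b : A) :
    (X : Module.End k A) (a * b) = a * (X : Module.End k A) b + b * (X : Module.End k A) a := by
  rw [coe_eq_fAct]
  exact fAct_tan_mul (isTan_dd X) a b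

/-- The invariant derivation of a tangent vector. -/
def ofTan (D : A →ₗ[k] k) (hD : IsTan D) : lieA k A :=
  ⟨fAct A D, by
    have e : (ε).comp (fAct A D) = D := LinearMap.ext fun a => counit_fAct D a
    exact ⟨by rw [e]; exact hD, by rw [e]⟩⟩

theorem dd_ofTan (D : A →ₗ[k] k) (hD : IsTan D) : dd (ofTan D hD) = D :=
  LinearMap.ext fun a => counit_fAct D a

variable {V : Type w} [AddCommGroup V] [Module k V] [HopfRep.Comod k A V]

variable (k A V) in
/-- The action of invariant derivations on a comodule. -/
def rho : lieA k A →ₗ⁅k⁆ Module.End k V where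
  toFun X := fAct V (dd X)
  map_add' X Y := by
    refine Eq.trans ?_ ((fActL (k := k) (A := A) V).map_add _ _)
    exact congrArg (fAct V) (LinearMap.comp_add _ _ _)
  map_smul' c X := by
    refine Eq.trans ?_ ((fActL (k := k) (A := A) V).map_smul _ _)
    exact congrArg (fAct V) (LinearMap.comp_smul _ _ _)
  map_lie' {X Y} := by
    have e : dd ⁅X, Y⁆ = (toConv (dd X) * toConv (dd Y) - toConv (dd Y) * toConv (dd X)).ofConv := by
      refine LinearMap.ext fun a => ?_
      refine Eq.trans ?_ (counit_fAct (toConv (dd X) * toConv (dd Y) - toConv (dd Y) * toConv (dd X)).ofConv a)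
      refine congrArg ε ?_
      refine Eq.trans ?_ (LinearMap.congr_fun
        ((fActL (k := k) (A := A) A).map_sub (toConv (dd X) * toConv (dd Y)).ofConv
          (toConv (dd Y) * toConv (dd X)).ofConv) a).symm
      change _ = (fAct A (toConv (dd X) * toConv (dd Y)).ofConv -
        fAct A (toConv (dd Y) * toConv (dd X)).ofConv) a
      rw [fAct_mul, fAct_mul, WithConv.ofConv_toConv, WithConv.ofConv_toConv, ← coe_eq_fAct, ← coe_eq_fAct]
      rfl
    rw [e, LieRing.of_associative_ring_bracket]
    refine Eq.trans ((fActL (k := k) (A := A) V).map_sub _ _) ?_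
    exact congrArg₂ (· - ·) (fAct_mul _ _) (fAct_mul _ _)

theorem rho_apply (X : lieA k A) (v : V) : rho k A V X v = fAct V (dd X) v := rfl

theorem rho_self (X : lieA k A) : rho k A A X = (X : Module.End k A) := (coe_eq_fAct X).symm

theorem cf_rho (X : lieA k A) (f : Module.Dual k V) (v : V) :
    (X : Module.End k A) (cf (A := A) f v) = cf f (rho k A V X v) := by
  rw [coe_eq_fAct, rho_apply, fAct_comm_of_isComodHom (isComodHom_cf f)]

theorem dd_eq_zero_of_gens {X : lieA k A} {s : Set A} (hs : Algebra.adjoin k s = ⊤)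
    (h : ∀ a ∈ s, dd X a = 0) : X = 0 := by
  have h0 : dd X = 0 := LinearMap.ext fun a => by
    have ha : a ∈ Algebra.adjoin k s := hs ▸ Algebra.mem_top
    induction ha using Algebra.adjoin_induction with
    | mem x hx => simpa using h x hx
    | algebraMap r => rw [Algebra.algebraMap_eq_smul_one, map_smul, (isTan_dd X).map_one, smul_zero]; rfl
    | add x y _ _ h1 h2 => rw [map_add, h1, h2]; simp
    | mul x y _ _ h1 h2 => rw [isTan_dd X x y, h1, h2]; simp
  refine Subtype.ext ?_
  rw [coe_eq_fAct, h0]
  exact (fActL (k := k) (A := A) A).map_zero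

instance finite_lieA [Algebra.FiniteType k A] : Module.Finite k (lieA k A) := by
  obtain ⟨s, hs⟩ := (‹Algebra.FiniteType k A›).out
  let f : lieA k A →ₗ[k] (s → k) :=
    { toFun := fun X a => dd X a
      map_add' := fun X Y => funext fun a => congrArg ε (LinearMap.add_apply _ _ _) |>.trans (map_add _ _ _)
      map_smul' := fun c X => funext fun a => congrArg ε (LinearMap.smul_apply _ _ _) |>.trans (map_smul _ _ _) }
  refine Module.Finite.of_injective f ?_
  rw [← LinearMap.ker_eq_bot, Submodule.eq_bot_iff]
  intro X hX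
  exact dd_eq_zero_of_gens hs fun a ha => congrFun (LinearMap.mem_ker.1 hX) ⟨a, ha⟩

/-- The ideal of the origin. -/
abbrev aug : Ideal A := RingHom.ker (Bialgebra.counitAlgHom k A)

theorem mem_aug {a : A} : a ∈ aug (k := k) (A := A) ↔ ε a = 0 := Iff.rfl

variable [CharZero k] [Algebra.FiniteType k A]

/-- The Euler operator argument. -/
theorem eq_bot_of_stable (hsep : ⨅ n : ℕ, (aug (k := k) (A := A)) ^ n = ⊥) (F : Submodule k A)
    (hε : ∀ f ∈ F, ε f = 0) (hF : ∀ (X : lieA k A), ∀ f ∈ F, (X : Module.End k A) f ∈ F) : F = ⊥ := by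
  classical
  set m := aug (k := k) (A := A) with hm
  let P : Submodule k A := (m ^ 2).restrictScalars k ⊔ k ∙ (1 : A)
  have hsub : ∀ a : A, a - algebraMap k A (ε a) ∈ m := fun a => by
    rw [hm, mem_aug, map_sub, Bialgebra.counit_algebraMap, sub_self]
  have hone : ∀ c : k, algebraMap k A c ∈ P := fun c => Submodule.mem_sup_right
    (Submodule.mem_span_singleton.2 ⟨c, (Algebra.algebraMap_eq_smul_one c).symm⟩)
  have hπmul : ∀ a b, a * b - (ε a • b + ε b • a) ∈ P := by
    intro a b
    have e : a * b - (ε a • b + ε b • a) =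
        (a - algebraMap k A (ε a)) * (b - algebraMap k A (ε b)) - algebraMap k A (ε a * ε b) := by
      simp only [Algebra.smul_def, map_mul]; ring
    rw [e]
    exact sub_mem (Submodule.mem_sup_left (by rw [pow_two]; exact Ideal.mul_mem_mul (hsub a) (hsub b))) (hone _)
  obtain ⟨s, hs⟩ := (‹Algebra.FiniteType k A›).out
  haveI : Module.Finite k (A ⧸ P) := by
    refine ⟨⟨s.image P.mkQ, eq_top_iff.2 fun x hxtop => ?_⟩⟩
    clear hxtop
    obtain ⟨a, rfl⟩ := P.mkQ_surjective x
    have ha : a ∈ Algebra.adjoin k (s : Set A) := hs ▸ Algebra.mem_top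
    induction ha using Algebra.adjoin_induction with
    | mem x hx => exact Submodule.subset_span (by simpa using ⟨x, hx, rfl⟩)
    | algebraMap r =>
      rw [Submodule.mkQ_apply, (Submodule.Quotient.mk_eq_zero P).2 (hone r)]
      exact zero_mem _
    | add x y _ _ h1 h2 => rw [map_add]; exact add_mem h1 h2
    | mul x y _ _ h1 h2 =>
      rw [show P.mkQ (x * y) = P.mkQ (ε x • y + ε y • x) from (Submodule.Quotient.eq P).2 (hπmul x y),
        map_add, map_smul, map_smul]
      exact add_mem (Submodule.smul_mem _ _ h2) (Submodule.smul_mem _ _ h1)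
  let b := Module.finBasis k (A ⧸ P)
  choose y hy using fun i => P.mkQ_surjective (b i)
  let x : Fin (Module.finrank k (A ⧸ P)) → A := fun i => y i - algebraMap k A (ε (y i))
  have hx : ∀ i, P.mkQ (x i) = b i := fun i => by
    rw [map_sub, hy, Submodule.mkQ_apply, (Submodule.Quotient.mk_eq_zero P).2 (hone _), sub_zero]
  have hxm : ∀ i, x i ∈ m := fun i => hsub _
  let D : Fin (Module.finrank k (A ⧸ P)) → (A →ₗ[k] k) := fun i => b.coord i ∘ₗ P.mkQ
  have hD : ∀ i, IsTan (D i) := by
    intro i a c
    simp only [D, LinearMap.comp_apply]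
    rw [show P.mkQ (a * c) = P.mkQ (ε a • c + ε c • a) from (Submodule.Quotient.eq P).2 (hπmul a c),
      map_add, map_smul, map_smul, map_add, map_smul, map_smul, smul_eq_mul, smul_eq_mul]
  let E : A →ₗ[k] A := ∑ i, (LinearMap.mulLeft k (x i)).comp (ofTan (D i) (hD i) : Module.End k A)
  have hE : ∀ a c, E (a * c) = a * E c + c * E a := by
    intro a c
    simp only [E, LinearMap.coe_sum, Finset.sum_apply, LinearMap.comp_apply, LinearMap.mulLeft_apply,
      apply_mul, Finset.mul_sum, ← Finset.sum_add_distrib]
    exact Finset.sum_congr rfl fun i _ => by ring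
  have hE1 : ∀ a ∈ m, E a - a ∈ m ^ 2 := by
    intro a ha
    have e1 : E a - (∑ i, D i a • x i) ∈ m ^ 2 := by
      simp only [E, LinearMap.coe_sum, Finset.sum_apply, LinearMap.comp_apply, LinearMap.mulLeft_apply,
        ← Finset.sum_sub_distrib]
      refine sum_mem fun i _ => ?_
      have hd := dd_ofTan (D i) (hD i)
      rw [show D i a = ε ((ofTan (D i) (hD i) : Module.End k A) a) from (LinearMap.congr_fun hd a).symm,
        Algebra.smul_def, mul_comm (algebraMap k A _), ← mul_sub, pow_two]
      exact Ideal.mul_mem_mul (hxm i) (hsub _)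
    have e2 : (∑ i, D i a • x i) - a ∈ P := by
      refine (Submodule.Quotient.mk_eq_zero P).1 ?_
      rw [← Submodule.mkQ_apply, map_sub, map_sum, sub_eq_zero]
      simp only [map_smul, hx]
      exact b.sum_repr (P.mkQ a)
    obtain ⟨p, hp, q, hq, hpq⟩ := Submodule.mem_sup.1 e2
    obtain ⟨c, rfl⟩ := Submodule.mem_span_singleton.1 hq
    have hc : c = 0 := by
      have hp0 : ε p = 0 := mem_aug.1 (Ideal.pow_le_self two_ne_zero hp)
      have hs0 : ε ((∑ i, D i a • x i) - a) = 0 := by
        rw [map_sub, mem_aug.1 ha, sub_zero, map_sum]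
        exact Finset.sum_eq_zero fun i _ => by rw [map_smul, mem_aug.1 (hxm i), smul_zero]
      rw [← hpq, map_add, hp0, map_smul, Bialgebra.counit_one, zero_add, smul_eq_mul, mul_one] at hs0
      exact hs0
    rw [hc, zero_smul, add_zero] at hpq
    have := add_mem e1 (hpq ▸ hp : (∑ i, D i a • x i) - a ∈ m ^ 2)
    simpa using this
  have hEn : ∀ n : ℕ, 1 ≤ n → ∀ a ∈ m ^ n, E a - (n : A) * a ∈ m ^ (n + 1) := by
    intro n hn
    induction n, hn using Nat.le_induction with
    | base =>
      intro a ha
      rw [pow_one] at ha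
      simpa using hE1 a ha
    | succ n hn ih =>
      intro a ha
      rw [pow_succ] at ha
      induction ha using Submodule.mul_induction_on' with
      | mem_mul_mem p hp q hq =>
        have e : E (p * q) - ((n + 1 : ℕ) : A) * (p * q) = p * (E q - q) + q * (E p - (n : A) * p) := by
          rw [hE]; push_cast; ring
        rw [e]
        refine add_mem ?_ ?_
        · rw [show n + 1 + 1 = n + 2 by omega, pow_add]
          exact Ideal.mul_mem_mul hp (hE1 q hq)
        · rw [pow_succ, mul_comm (m ^ (n + 1))]
          exact Ideal.mul_mem_mul hq (ih p hp)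
      | add p _ q _ h1 h2 =>
        have := add_mem h1 h2
        rw [map_add, mul_add]
        convert this using 1
        ring
  have key : ∀ n : ℕ, 1 ≤ n → ∀ f ∈ F, f ∈ m ^ n := by
    intro n hn
    induction n, hn using Nat.le_induction with
    | base => intro f hf; rw [pow_one]; exact hε f hf
    | succ n hn ih =>
      intro f hf
      have h1 : E f ∈ m ^ (n + 1) := by
        simp only [E, LinearMap.coe_sum, Finset.sum_apply, LinearMap.comp_apply, LinearMap.mulLeft_apply]
        refine sum_mem fun i _ => ?_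
        rw [pow_succ']
        exact Ideal.mul_mem_mul (hxm i) (ih _ (hF _ f hf))
      have h2 : (n : A) * f ∈ m ^ (n + 1) := by
        have := sub_mem h1 (hEn n hn f (ih f hf))
        simpa using this
      have h3 := (m ^ (n + 1)).mul_mem_left (algebraMap k A ((n : k)⁻¹)) h2
      rwa [← mul_assoc, ← map_natCast (algebraMap k A), ← map_mul,
        inv_mul_cancel₀ (by exact_mod_cast (show n ≠ 0 by omega)), map_one, one_mul] at h3
  rw [Submodule.eq_bot_iff]
  intro f hf
  have : f ∈ ⨅ n : ℕ, m ^ n := by
    rw [Ideal.mem_iInf]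
    intro n
    rcases Nat.eq_zero_or_pos n with rfl | hn
    · simp
    · exact key n hn f hf
  rwa [hsep, Ideal.mem_bot] at this

/-- A subspace stable under the invariant derivations is a subcomodule. -/
theorem isSubcomod_of_stable (hsep : ⨅ n : ℕ, (aug (k := k) (A := A)) ^ n = ⊥) {W : Submodule k V}
    (hW : ∀ (X : lieA k A), ∀ v ∈ W, rho k A V X v ∈ W) :
    HopfRep.IsSubcomod (k := k) (A := A) W := by
  rw [isSubcomod_iff]
  intro φ v hv
  by_contra hne
  obtain ⟨l, hl, hlW⟩ := Submodule.exists_dual_map_eq_bot_of_notMem hne inferInstance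
  have hl0 : ∀ w ∈ W, l w = 0 := fun w hw => (Submodule.eq_bot_iff _).1 hlW _ ⟨w, hw, rfl⟩
  have hF := eq_bot_of_stable hsep (W.map (cf (A := A) l)) (by
      rintro _ ⟨w, hw, rfl⟩
      rw [apply_cf, fAct_counit]
      exact hl0 w hw) (by
      rintro X _ ⟨w, hw, rfl⟩
      exact ⟨_, hW X w hw, (cf_rho X l w).symm⟩)
  have h0 : cf (A := A) l v = 0 := (Submodule.eq_bot_iff _).1 hF _ ⟨v, hv, rfl⟩
  exact hl (by rw [← apply_cf, h0, map_zero])

theorem sep_of_isDomain [IsDomain A] : ⨅ n : ℕ, (aug (k := k) (A := A)) ^ n = ⊥ := by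
  haveI : IsNoetherianRing A := Algebra.FiniteType.isNoetherianRing k A
  refine Ideal.iInf_pow_eq_bot_of_isDomain _ fun h => one_ne_zero (α := k) ?_
  rw [← Bialgebra.counit_one (R := k) (A := A)]
  exact mem_aug.1 (h ▸ Submodule.mem_top)

end Groth.L14.RedLR
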