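import Groth.Agent.L14.RedLR.Core
import Groth.Agent.L08.Luna.Basic
import Groth.Agent.L08.HopfModule
import Groth.Agent.L08.CartierRed
import Groth.Agent.L08.CentralGm
import Groth.Agent.L01.NormalHopf

/-!
# The fixator of a semisimple subrepresentation of the regular representation
-/

set_option autoImplicit false
set_option linter.style.haveILetI false
set_option linter.unusedSectionVars false
universe u

open TensorProduct WithConv Module

noncomputable section

namespace Groth.L14.RedLR

open Groth.L08 Groth.L08.Luna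

variable {k : Type u} [Field k] {A : Type u} [CommRing A] [HopfAlgebra k A]

instance instCoactRegular : GLin.IsCoactAlg k A A := isCoactAlg_regular

local notation "ε" => (Coalgebra.counit (R := k) (A := A))

theorem counit_σ (χ : A →ₐ[k] k) (a : A) : ε (σ A χ a) = χ a := by
  rw [σ_apply]
  exact counit_fAct χ.toLinearMap a

/-- A translation minus the identity. -/
def nn (χ : A →ₐ[k] k) : Module.End k A := (σ A χ).toLinearMap - LinearMap.id

/-- Semisimple finite subcomodules of the regular comodule. -/
structure SSSub (k : Type u) (A : Type u) [Field k] [CommRing A] [HopfAlgebra k A] where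
  /-- the space -/
  sp : Submodule k A
  fin : Module.Finite k sp
  sub : HopfRep.IsSubcomod (k := k) (A := A) sp
  ss : IsSemisimpleModule (Dl k A) (toSub sub)

variable (k A) in
/-- The zero one. -/
def SSSub.zero : SSSub k A where
  sp := ⊥
  fin := inferInstance
  sub := isSubcomod_bot
  ss := by
    haveI : Subsingleton (toSub (isSubcomod_bot (k := k) (A := A) (V := A))) :=
      ⟨fun a b => Subtype.ext ((Submodule.mem_bot k).1 a.2 |>.trans ((Submodule.mem_bot k).1 b.2).symm)⟩
    rw [isSemisimpleModule_iff]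
    exact ⟨fun a => ⟨⊤, IsCompl.of_eq (Subsingleton.elim _ _) (Subsingleton.elim _ _)⟩⟩

variable [IsAlgClosed k] [CharZero k] [Algebra.FiniteType k A]

/-- Fixing a semisimple subspace forces unipotence on a given finite subcomodule. -/
theorem exists_ss (W : Submodule k A) [Module.Finite k W] (hW : HopfRep.IsSubcomod (k := k) (A := A) W) :
    ∃ (V : SSSub k A) (n : ℕ), ∀ χ : A →ₐ[k] k, (∀ v ∈ V.sp, σ A χ v = v) →
      ∀ w ∈ W, (nn χ ^ n) w = 0 := by
  classical
  obtain ⟨d, hd⟩ : ∃ d, finrank k W ≤ d := ⟨_, le_rfl⟩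
  induction d generalizing W with
  | zero =>
    refine ⟨SSSub.zero k A, 0, fun χ _ w hw => ?_⟩
    haveI : Subsingleton W := (Module.finrank_zero_iff (R := k)).1 (by omega)
    have : (⟨w, hw⟩ : W) = 0 := Subsingleton.elim _ _
    rw [pow_zero, Module.End.one_apply]
    exact congrArg Subtype.val this
  | succ d ih =>
    by_cases hW0 : W = ⊥
    · exact ⟨SSSub.zero k A, 0, fun χ _ w hw => by
        rw [hW0, Submodule.mem_bot] at hw; simp [hw]⟩
    -- a maximal proper subcomodule
    have hex : ∃ m, ∃ S : Submodule k A, HopfRep.IsSubcomod (k := k) (A := A) S ∧ S < W ∧ finrank k W - finrank k S = m :=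
      ⟨_, ⊥, isSubcomod_bot, bot_lt_iff_ne_bot.2 hW0, rfl⟩
    obtain ⟨S, hS, hSW, hSm⟩ := Nat.find_spec hex
    haveI : Module.Finite k S := Submodule.finiteDimensional_of_le hSW.le
    have hmax : ∀ S' : Submodule k A, HopfRep.IsSubcomod (k := k) (A := A) S' → S ≤ S' → S' ≤ W → S' = S ∨ S' = W := by
      intro S' h1 h2 h3
      by_contra hne
      push Not at hne
      have hlt := lt_of_le_of_ne h2 hne.1.symm
      have hlt' := lt_of_le_of_ne h3 hne.2
      haveI : Module.Finite k S' := Submodule.finiteDimensional_of_le h3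
      have e1 := Submodule.finrank_lt_finrank_of_lt hlt
      have e2 := Submodule.finrank_lt_finrank_of_lt hlt'
      refine Nat.find_min hex (m := finrank k W - finrank k S') ?_ ⟨S', h1, hlt', rfl⟩
      omega
    have hSd : finrank k S ≤ d := by
      have := Submodule.finrank_lt_finrank_of_lt hSW
      omega
    obtain ⟨V, n, hV⟩ := ih S hS hSd
    obtain ⟨w₀, hw₀, hw₀S⟩ := SetLike.exists_of_lt hSW
    obtain ⟨l, hl, hlS⟩ := Submodule.exists_dual_map_eq_bot_of_notMem hw₀S inferInstance
    have hlS' : ∀ s ∈ S, l s = 0 := fun s hs => (Submodule.eq_bot_iff _).1 hlS _ ⟨s, hs, rfl⟩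
    let f : A →ₗ[Dl k A] A := homToMod (isComodHom_cf (A := A) (V := A) l)
    have hf : ∀ a, f a = cf (A := A) (V := A) l a := fun a => rfl
    let T : Submodule (Dl k A) A := (toSub hW).map f
    have hkerS : S ≤ (LinearMap.ker f).restrictScalars k := by
      intro s hs
      change f s = 0
      rw [hf]
      refine CartierRed.eq_zero_of_forall_point (k := k) fun g => ?_
      rw [show g (cf (A := A) l s) = l (fAct A g.toLinearMap s) from apply_cf g.toLinearMap l s]
      exact hlS' _ (fAct_mem_of_isSubcomod hS _ hs)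
    have hTs : IsSimpleModule (Dl k A) T := by
      rw [isSimpleModule_iff]
      haveI : Nontrivial T := by
        refine ⟨⟨f w₀, ⟨w₀, hw₀, rfl⟩⟩, 0, fun h => hl ?_⟩
        have h' := congrArg (fun t : T => ε (t : A)) h
        simp only [hf, ZeroMemClass.coe_zero, map_zero] at h'
        rwa [apply_cf, fAct_counit] at h'
      refine { eq_bot_or_eq_top := fun P => ?_ }
      let P' : Submodule (Dl k A) A := toSub hW ⊓ (P.map T.subtype).comap f
      rcases hmax (P'.restrictScalars k) (isSubcomod_restrictScalars P') (fun s hs => ⟨hSW.le hs, by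
          have h0 : f s = 0 := hkerS hs
          show f s ∈ P.map T.subtype
          rw [h0]
          exact zero_mem _⟩) (fun s hs => hs.1) with h | h
      · refine Or.inl ((Submodule.eq_bot_iff P).2 fun t ht => Subtype.ext ?_)
        obtain ⟨w, hw, hwt⟩ := t.2
        have : w ∈ P'.restrictScalars k := ⟨hw, ⟨t, ht, hwt.symm⟩⟩
        rw [h] at this
        rw [← hwt]
        exact hkerS this
      · refine Or.inr (eq_top_iff.2 fun t _ => ?_)
        obtain ⟨w, hw, hwt⟩ := t.2
        have : w ∈ P'.restrictScalars k := h.symm ▸ hw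
        obtain ⟨t', ht', he⟩ := this.2
        have : t' = t := Subtype.ext (he.trans hwt)
        exact this ▸ ht'
    haveI := hTs
    haveI := V.ss
    haveI : IsSemisimpleModule (Dl k A) (toSub V.sub ⊔ T : Submodule (Dl k A) A) := IsSemisimpleModule.sup V.ss inferInstance
    haveI := V.fin
    have hfin : Module.Finite k (V.sp ⊔ W.map (cf (A := A) (V := A) l) : Submodule k A) := inferInstance
    have hTW : (toSub V.sub ⊔ T).restrictScalars k = V.sp ⊔ W.map (cf (A := A) (V := A) l) := by
      rw [Submodule.restrictScalars_sup]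
      exact congrArg (V.sp ⊔ ·) rfl
    refine ⟨⟨(toSub V.sub ⊔ T).restrictScalars k, hTW ▸ hfin, isSubcomod_restrictScalars _, by
      change IsSemisimpleModule (Dl k A) (toSub V.sub ⊔ T : Submodule (Dl k A) A); infer_instance⟩, n + 1,
      fun χ hχ w hw => ?_⟩
    rw [pow_succ, Module.End.mul_apply]
    refine hV χ (fun v hv => hχ v (Submodule.mem_sup_left (show v ∈ toSub V.sub from hv))) _ ?_
    -- the difference is in `S`
    let P : Submodule (Dl k A) A := toSub hW ⊓ LinearMap.ker f
    rcases hmax (P.restrictScalars k) (isSubcomod_restrictScalars P) (fun s hs => ⟨hSW.le hs, hkerS hs⟩)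
      (fun s hs => hs.1) with h | h
    · rw [← h]
      refine ⟨sub_mem ?_ hw, ?_⟩
      · change σ A χ w ∈ W
        rw [σ_apply]
        exact fAct_mem_of_isSubcomod hW _ hw
      · change f (σ A χ w - w) = 0
        rw [map_sub, sub_eq_zero, hf, hf, σ_apply, fAct_comm_of_isComodHom (isComodHom_cf (A := A) (V := A) l),
          ← σ_apply]
        exact hχ _ (Submodule.mem_sup_right ⟨w, hw, rfl⟩)
    · have : w₀ ∈ P.restrictScalars k := h.symm ▸ hw₀
      have h0 : ε (f w₀) = ε 0 := congrArg ε this.2
      rw [hf, apply_cf, fAct_counit, map_zero] at h0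
      exact absurd h0 hl

/-- Locally unipotent translations. -/
def LocUnip (χ : A →ₐ[k] k) : Prop :=
  ∀ a : A, ∃ n : ℕ, (nn χ ^ n) a = 0

omit [IsAlgClosed k] [CharZero k] [Algebra.FiniteType k A] in
theorem locUnip_of_gens (χ : A →ₐ[k] k) {s : Set A} (hs : Algebra.adjoin k s = ⊤)
    (h : ∀ a ∈ s, ∃ n : ℕ, (nn χ ^ n) a = 0) :
    LocUnip χ := by
  set N : Module.End k A := nn χ with hNdef
  have hN : ∀ x, σ A χ x = x + N x := fun x => by simp [hNdef, nn]
  have hNmul : ∀ x y, N (x * y) = N x * y + N x * N y + x * N y := fun x y => by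
    change σ A χ (x * y) - x * y = _
    rw [map_mul, hN, hN]; ring
  have hmono : ∀ {n m : ℕ} {x : A}, n ≤ m → (N ^ n) x = 0 → (N ^ m) x = 0 := by
    intro n m x hnm hx
    rw [show m = (m - n) + n by omega, pow_add, Module.End.mul_apply, hx, map_zero]
  have hmul : ∀ t i j : ℕ, i + j ≤ t → ∀ x y : A, (N ^ i) x = 0 → (N ^ j) y = 0 → (N ^ (i + j)) (x * y) = 0 := by
    intro t
    induction t with
    | zero =>
      intro i j hij x y hx _
      obtain ⟨rfl, rfl⟩ : i = 0 ∧ j = 0 := by omega
      rw [pow_zero, Module.End.one_apply] at hx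
      simp [hx]
    | succ t ih =>
      intro i j hij x y hx hy
      rcases i with _ | i
      · rw [pow_zero, Module.End.one_apply] at hx; simp [hx]
      rcases j with _ | j
      · rw [pow_zero, Module.End.one_apply] at hy; simp [hy]
      have hx' : (N ^ i) (N x) = 0 := by rwa [← Module.End.mul_apply, ← pow_succ]
      have hy' : (N ^ j) (N y) = 0 := by rwa [← Module.End.mul_apply, ← pow_succ]
      rw [show i + 1 + (j + 1) = (i + j + 1) + 1 by omega, pow_succ, Module.End.mul_apply, hNmul, map_add, map_add,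
        show i + j + 1 = i + (j + 1) by omega, ih i (j + 1) (by omega) _ _ hx' hy,
        hmono (show i + j ≤ i + (j + 1) by omega) (ih i j (by omega) _ _ hx' hy'), zero_add, zero_add,
        show i + (j + 1) = i + 1 + j by omega, ih (i + 1) j (by omega) _ _ hx hy']
  intro a
  have ha : a ∈ Algebra.adjoin k s := hs ▸ Algebra.mem_top
  induction ha using Algebra.adjoin_induction with
  | mem x hx => exact h x hx
  | algebraMap r =>
    refine ⟨1, ?_⟩
    rw [pow_one]
    change σ A χ (algebraMap k A r) - algebraMap k A r = 0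
    rw [AlgHom.commutes, sub_self]
  | add x y _ _ hx hy =>
    obtain ⟨i, hi⟩ := hx
    obtain ⟨j, hj⟩ := hy
    exact ⟨max i j, by rw [map_add, hmono (le_max_left i j) hi, hmono (le_max_right i j) hj, add_zero]⟩
  | mul x y _ _ hx hy =>
    obtain ⟨i, hi⟩ := hx
    obtain ⟨j, hj⟩ := hy
    exact ⟨i + j, hmul _ i j le_rfl x y hi hj⟩

/-- A semisimple subspace whose fixator is unipotent. -/
theorem exists_unipotent_fixator : ∃ V : SSSub k A, ∀ χ : A →ₐ[k] k, (∀ v ∈ V.sp, σ A χ v = v) → LocUnip χ := by
  obtain ⟨s, hs⟩ := (‹Algebra.FiniteType k A›).out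
  obtain ⟨W, hW1, hsW, hW2⟩ := exists_finite_subcomod_of_finset (k := k) (A := A) s
  haveI := hW1
  obtain ⟨V, n, hV⟩ := exists_ss W hW2
  exact ⟨V, fun χ hχ => locUnip_of_gens χ hs fun a ha => ⟨n, hV χ hχ a (hsW ha)⟩⟩

variable (V : SSSub k A)

local instance : Module.Finite k V.sp := V.fin

/-- A basis. -/
def bas : Basis (Fin (finrank k V.sp)) k V.sp := Module.finBasis k V.sp

/-- An extension of the coordinates. -/
def lco (i : Fin (finrank k V.sp)) : A →ₗ[k] k := (LinearMap.exists_extend ((bas V).coord i)).choose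

theorem lco_apply (i : Fin (finrank k V.sp)) (v : V.sp) : lco V i v = (bas V).coord i v :=
  LinearMap.congr_fun (LinearMap.exists_extend ((bas V).coord i)).choose_spec v

/-- The matrix of the representation. -/
def mco : Matrix (Fin (finrank k V.sp)) (Fin (finrank k V.sp)) A :=
  Matrix.of fun i j => cf (A := A) (lco V i) ((bas V) j : A)

theorem mco_apply (i j : Fin (finrank k V.sp)) : mco V i j = cf (A := A) (lco V i) ((bas V) j : A) := rfl

theorem fAct_bas (φ : A →ₗ[k] k) (j : Fin (finrank k V.sp)) :
    fAct A φ ((bas V) j : A) = ∑ i, φ (mco V i j) • ((bas V) i : A) := by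
  have hm := fAct_mem_of_isSubcomod V.sub φ ((bas V) j).2
  conv_lhs => rw [show fAct A φ ((bas V) j : A) = ((⟨_, hm⟩ : V.sp) : A) from rfl, ← (bas V).sum_repr ⟨_, hm⟩]
  rw [Submodule.coe_sum]
  refine Finset.sum_congr rfl fun i _ => ?_
  rw [Submodule.coe_smul]
  congr 1
  rw [mco_apply, apply_cf, ← (bas V).coord_apply, ← lco_apply]

theorem counit_mco (i j : Fin (finrank k V.sp)) : ε (mco V i j) = if i = j then 1 else 0 := by
  rw [mco_apply, apply_cf, fAct_counit, LinearMap.id_apply, lco_apply, Basis.coord_apply, Basis.repr_self,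
    Finsupp.single_apply]
  exact if_congr eq_comm rfl rfl

theorem comul_mco (i j : Fin (finrank k V.sp)) :
    Coalgebra.comul (R := k) (mco V i j) = ∑ l, mco V i l ⊗ₜ[k] mco V l j := by
  classical
  let e := Module.Basis.ofVectorSpace k A
  refine (TensorProduct.equivFinsuppOfBasisRight e).injective (Finsupp.ext fun p => ?_)
  rw [TensorProduct.equivFinsuppOfBasisRight_apply, TensorProduct.equivFinsuppOfBasisRight_apply]
  have h1 : TensorProduct.rid k A ((e.coord p).lTensor A (Coalgebra.comul (R := k) (mco V i j))) =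
      fAct A (e.coord p) (mco V i j) := rfl
  rw [h1, mco_apply, ← fAct_comm_of_isComodHom (isComodHom_cf (A := A) (V := A) (lco V i)), fAct_bas, map_sum,
    map_sum, map_sum]
  refine Finset.sum_congr rfl fun l _ => ?_
  rw [LinearMap.lTensor_tmul, TensorProduct.rid_tmul, map_smul]
  rfl

/-- The inverse determinant. -/
def dinv : A := HopfAlgebraStruct.antipode (R := k) (mco V).det

theorem det_mul_dinv : (mco V).det * dinv V = 1 := by
  have hg := CentralGm.isGroupLikeElem_det (mco V) (comul_mco V) (counit_mco V)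
  have := HopfAlgebra.mul_antipode_lTensor_comul_apply (R := k) (mco V).det
  rw [hg.comul_eq_tmul_self, hg.counit_eq_one, map_one] at this
  simpa [dinv] using this

theorem isGroupLikeElem_dinv : IsGroupLikeElem k (dinv V) :=
  IsGroupLikeElem.of_mul_eq_one (det_mul_dinv V) (by rw [mul_comm]; exact det_mul_dinv V)
    (CentralGm.isGroupLikeElem_det (mco V) (comul_mco V) (counit_mco V))

/-- The algebra of matrix coefficients. -/
def Bsub : Subalgebra k A :=
  Algebra.adjoin k (Set.range (fun p : Fin (finrank k V.sp) × Fin (finrank k V.sp) => mco V p.1 p.2) ∪ {dinv V})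

theorem mco_mem (i j : Fin (finrank k V.sp)) : mco V i j ∈ Bsub V := Algebra.subset_adjoin (Or.inl ⟨(i, j), rfl⟩)

theorem dinv_mem : dinv V ∈ Bsub V := Algebra.subset_adjoin (Or.inr rfl)

theorem isHopfSubalgebra_Bsub : SGA3.IsHopfSubalgebra k A (Bsub V) := by
  constructor
  · intro b hb
    change Bialgebra.comulAlgHom k A b ∈ (Algebra.TensorProduct.map (Bsub V).val (Bsub V).val).range
    refine Algebra.adjoin_le (S := ((Algebra.TensorProduct.map (Bsub V).val (Bsub V).val).range).comap
      (Bialgebra.comulAlgHom k A)) ?_ hb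
    rintro x (⟨⟨i, j⟩, rfl⟩ | rfl)
    · refine ⟨∑ l, (⟨_, mco_mem V i l⟩ : Bsub V) ⊗ₜ[k] (⟨_, mco_mem V l j⟩ : Bsub V), ?_⟩
      simp [comul_mco]
    · refine ⟨(⟨_, dinv_mem V⟩ : Bsub V) ⊗ₜ[k] (⟨_, dinv_mem V⟩ : Bsub V), ?_⟩
      simp [(isGroupLikeElem_dinv V).comul_eq_tmul_self]
  · intro b hb
    change HopfAlgebra.antipodeAlgHom k A b ∈ Bsub V
    refine Algebra.adjoin_le (S := (Bsub V).comap (HopfAlgebra.antipodeAlgHom k A)) ?_ hb
    have hY : ((mco V).map (HopfAlgebraStruct.antipode (R := k))) * mco V = 1 := by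
      ext i j
      have h := HopfAlgebra.mul_antipode_rTensor_comul_apply (R := k) (mco V i j)
      rw [comul_mco, map_sum, map_sum, counit_mco] at h
      rw [Matrix.mul_apply, Matrix.one_apply]
      refine Eq.trans (Finset.sum_congr rfl fun l _ => ?_) (h.trans (by split_ifs <;> simp))
      simp
    have hA : mco V * (dinv V • (mco V).adjugate) = 1 := by
      rw [Matrix.mul_smul, Matrix.mul_adjugate, smul_smul, mul_comm, det_mul_dinv, one_smul]
    have hYeq := left_inv_eq_right_inv hY hA
    rintro x (⟨⟨i, j⟩, rfl⟩ | rfl)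
    · change HopfAlgebraStruct.antipode (R := k) (mco V i j) ∈ Bsub V
      rw [← Matrix.map_apply (f := (HopfAlgebraStruct.antipode (R := k) : A → A)), hYeq, Matrix.smul_apply,
        smul_eq_mul]
      refine mul_mem (dinv_mem V) ?_
      rw [Matrix.adjugate_apply, Matrix.det_apply]
      refine sum_mem fun τ _ => ?_
      refine zsmul_mem (prod_mem fun l _ => ?_) _
      rw [Matrix.updateRow_apply]
      split_ifs
      · rw [Pi.single_apply]; split_ifs
        · exact one_mem _
        · exact zero_mem _
      · exact mco_mem V _ _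
    · have h := HopfAlgebra.mul_antipode_rTensor_comul_apply (R := k) (dinv V)
      rw [(isGroupLikeElem_dinv V).comul_eq_tmul_self, (isGroupLikeElem_dinv V).counit_eq_one, map_one,
        LinearMap.rTensor_tmul, LinearMap.mul'_apply] at h
      change HopfAlgebraStruct.antipode (R := k) (dinv V) ∈ Bsub V
      rw [show HopfAlgebraStruct.antipode (R := k) (dinv V) = (mco V).det from
        left_inv_eq_right_inv h (by rw [mul_comm]; exact det_mul_dinv V), Matrix.det_apply]
      exact sum_mem fun τ _ => zsmul_mem (prod_mem fun l _ => mco_mem V _ _) _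

/-- The ideal of the fixator. -/
def fixI : Ideal A := SGA3.augIdealSpan k A (Bsub V)

theorem quot_of_mem {b : A} (hb : b ∈ Bsub V) :
    Ideal.Quotient.mkₐ k (fixI V) b = algebraMap k _ (ε b) := by
  rw [← AlgHom.commutes (Ideal.Quotient.mkₐ k (fixI V)), Ideal.Quotient.mkₐ_eq_mk, Ideal.Quotient.eq]
  refine Ideal.subset_span ⟨sub_mem hb (Subalgebra.algebraMap_mem _ _), ?_⟩
  rw [map_sub, Bialgebra.counit_algebraMap, sub_self]

theorem counit_fixI {x : A} (hx : x ∈ fixI V) : ε x = 0 := by
  have : fixI V ≤ aug (k := k) (A := A) := Ideal.span_le.2 fun a ha => ha.2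
  exact this hx

instance isHopfIdeal_fixI : (fixI V).IsHopfIdeal k where
  counit_eq_zero := fun x hx => counit_fixI V hx
  map_mkQ_comul_eq_zero := fun x hx => by
    let q := Ideal.Quotient.mkₐ k (fixI V)
    let F : A →ₐ[k] (A ⧸ fixI V) ⊗[k] (A ⧸ fixI V) :=
      (Algebra.TensorProduct.map q q).comp (Bialgebra.comulAlgHom k A)
    have key : fixI V ≤ RingHom.ker F := by
      refine Ideal.span_le.2 fun b hb => ?_
      obtain ⟨z, hz⟩ := (isHopfSubalgebra_Bsub V).1 b hb.1
      have e : ∀ z : Bsub V ⊗[k] Bsub V, Algebra.TensorProduct.map q q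
          (TensorProduct.map (Bsub V).val.toLinearMap (Bsub V).val.toLinearMap z) =
            algebraMap k _ (ε (TensorProduct.rid k A ((ε).lTensor A
              (TensorProduct.map (Bsub V).val.toLinearMap (Bsub V).val.toLinearMap z)))) := by
        intro z
        induction z with
        | zero => simp
        | add p r hp hr => simp only [map_add, hp, hr]
        | tmul p r =>
          simp only [TensorProduct.map_tmul, AlgHom.toLinearMap_apply, Subalgebra.coe_val,
            Algebra.TensorProduct.map_tmul, LinearMap.lTensor_tmul, TensorProduct.rid_tmul, map_smul, smul_eq_mul,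
            map_mul]
          rw [quot_of_mem V p.2, quot_of_mem V r.2, Algebra.algebraMap_eq_smul_one, Algebra.algebraMap_eq_smul_one,
            Algebra.algebraMap_eq_smul_one, Algebra.algebraMap_eq_smul_one, TensorProduct.smul_tmul_smul,
            Algebra.TensorProduct.one_def, smul_mul_smul_comm, Algebra.TensorProduct.tmul_mul_tmul, one_mul,
            mul_comm]
      change F b = 0
      change Algebra.TensorProduct.map q q (Coalgebra.comul (R := k) b) = 0
      rw [← hz, e, hz]
      simp [hb.2]
    exact key hx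
  antipode_mem := fun x hx => by
    have key : fixI V ≤ (fixI V).comap (HopfAlgebra.antipodeAlgHom k A) := by
      refine Ideal.span_le.2 fun b hb => Ideal.subset_span ⟨(isHopfSubalgebra_Bsub V).2 b hb.1, ?_⟩
      change ε (HopfAlgebraStruct.antipode (R := k) b) = 0
      rw [HopfAlgebra.counit_antipode]
      exact hb.2
    exact key hx

theorem kills_iff (χ : A →ₐ[k] k) :
    (∀ a ∈ fixI V, χ a = 0) ↔ ∀ v ∈ V.sp, σ A χ v = v := by
  constructor
  · intro h v hv
    have hb : ∀ j, σ A χ ((bas V) j : A) = ((bas V) j : A) := fun j => by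
      rw [σ_apply, fAct_bas, Finset.sum_eq_single j]
      · have := h _ (Ideal.subset_span ⟨sub_mem (mco_mem V j j) (one_mem _), by
          rw [map_sub, counit_mco, if_pos rfl, Bialgebra.counit_one, sub_self]⟩)
        rw [map_sub, map_one, sub_eq_zero] at this
        rw [AlgHom.toLinearMap_apply, this, one_smul]
      · intro i _ hij
        rw [AlgHom.toLinearMap_apply, h _ (Ideal.subset_span ⟨mco_mem V i j, by rw [counit_mco, if_neg hij]⟩),
          zero_smul]
      · simp
    have e : (σ A χ).toLinearMap.comp V.sp.subtype = V.sp.subtype := (bas V).ext hb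
    exact LinearMap.congr_fun e ⟨v, hv⟩
  · intro h
    have e : ∀ b ∈ Bsub V, χ b = ε b := by
      have e1 : ∀ i j, χ (mco V i j) = ε (mco V i j) := fun i j => by
        rw [mco_apply, apply_cf, fAct_counit, LinearMap.id_apply]
        refine (apply_cf (A := A) χ.toLinearMap (lco V i) _).trans ?_
        rw [← σ_apply, h _ ((bas V) j).2]
      intro b hb
      refine AlgHom.congr_fun (AlgHom.adjoin_ext (φ₁ := χ.comp (Bsub V).val)
        (φ₂ := (Bialgebra.counitAlgHom k A).comp (Bsub V).val) ?_) (⟨b, hb⟩ : Bsub V)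
      rintro x (⟨⟨i, j⟩, rfl⟩ | rfl)
      · exact e1 i j
      · change χ (dinv V) = ε (dinv V)
        have h1 : χ (mco V).det = 1 := by
          rw [AlgHom.map_det, show χ.mapMatrix (mco V) = 1 from Matrix.ext fun i j => by
            rw [AlgHom.mapMatrix_apply, Matrix.map_apply, e1, counit_mco, Matrix.one_apply], Matrix.det_one]
        have h2 := congrArg χ (det_mul_dinv V)
        rw [map_mul, h1, one_mul, map_one] at h2
        rw [h2, (isGroupLikeElem_dinv V).counit_eq_one]
    intro a ha
    have : fixI V ≤ RingHom.ker χ := Ideal.span_le.2 fun b hb => by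
      change χ b = 0
      rw [e b hb.1]; exact hb.2
    exact this ha

theorem generates_of_top (h : Bsub V = ⊤) :
    @Generates k _ A _ _ V.sp _ _ (ComodSub.Comod.restr inferInstance V.sp V.sub) := by
  letI := ComodSub.Comod.restr (inferInstance : HopfRep.Comod k A A) V.sp V.sub
  refine eq_top_iff.2 (h ▸ Algebra.adjoin_le ?_)
  have hm : ∀ i j, mco V i j ∈ coeffSet k A V.sp := fun i j => ⟨(bas V).coord i, (bas V) j, by
    have hh : (bas V).coord i = (lco V i).comp V.sp.subtype := LinearMap.ext fun v => (lco_apply V i v).symm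
    rw [mco_apply, hh, cf_apply, cf_apply, LinearMap.rTensor_comp_apply]
    exact congrArg (fun z => TensorProduct.lid k A ((lco V i).rTensor A z))
      (ComodSub.restr_coact_coe _ V.sp V.sub _)⟩
  rintro x (⟨⟨i, j⟩, rfl⟩ | rfl)
  · exact Algebra.subset_adjoin (Or.inl (hm i j))
  · refine Algebra.subset_adjoin (Or.inr ⟨isGroupLikeElem_dinv V, (mco V).det, ?_, det_mul_dinv V⟩)
    rw [Matrix.det_apply]
    exact sum_mem fun τ _ => zsmul_mem (prod_mem fun l _ => Algebra.subset_adjoin (hm _ _)) _

theorem isSemisimpleComod_sp :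
    @HopfRep.IsSemisimpleComod k A _ _ _ _ V.sp _ _ (ComodSub.Comod.restr inferInstance V.sp V.sub) := by
  letI := ComodSub.Comod.restr (inferInstance : HopfRep.Comod k A A) V.sp V.sub
  haveI := V.ss
  rw [isSemisimpleComod_iff]
  let f : V.sp →ₗ[Dl k A] A := homToMod (ComodSub.isComodHom_subtype (inferInstance : HopfRep.Comod k A A) V.sp V.sub)
  let g : V.sp →ₗ[Dl k A] toSub V.sub := f.codRestrict (toSub V.sub) fun v => v.2
  exact IsSemisimpleModule.of_injective g fun a b hab => Subtype.ext (congrArg Subtype.val hab :)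

end Groth.L14.RedLR
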