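import Groth.Agent.L14.RedLR.Fix
import Mathlib.RingTheory.HopfAlgebra.TensorProduct
import Mathlib.RingTheory.Ideal.MinimalPrime.Noetherian
import Mathlib.RingTheory.Nilpotent.Lemmas

/-!
# Unipotent fixators are connected, normal and torsion free
-/

set_option autoImplicit false
set_option linter.style.haveILetI false
set_option linter.unusedSectionVars false
universe u

open TensorProduct WithConv Module

noncomputable section

namespace Groth.L14.RedLR

open Groth.L08 Groth.L08.Luna

variable {k : Type u} [Field k] [CharZero k]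

/-- A unipotent map fixing a vector under a power fixes the vector. -/
theorem fix_of_pow_fix {M : Type u} [AddCommGroup M] [Module k M] (T : Module.End k M) {m : ℕ} (hm : m ≠ 0) {y : M}
    (hy : (T ^ m) y = y) (hN : ∃ n : ℕ, ((T - 1 : Module.End k M) ^ n) y = 0) : T y = y := by
  obtain ⟨n, hn⟩ := hN
  have hS : ((∑ i ∈ Finset.range m, T ^ i) * (T - 1)) y = 0 := by
    rw [geom_sum_mul, LinearMap.sub_apply, hy, Module.End.one_apply, sub_self]
  rw [Module.End.mul_apply] at hS
  have hred : ∀ r : ℕ, 1 ≤ r → ((T - 1 : Module.End k M) ^ (r + 1)) y = 0 → ((T - 1) ^ r) y = 0 := by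
    intro r hr h
    set z := ((T - 1) ^ r) y with hz
    have hTz : T z = z := by
      rw [pow_succ', Module.End.mul_apply, ← hz, LinearMap.sub_apply, Module.End.one_apply, sub_eq_zero] at h
      exact h
    have hfix : ∀ i : ℕ, (T ^ i) z = z := fun i => by
      induction i with
      | zero => rfl
      | succ i ih => rw [pow_succ, Module.End.mul_apply, hTz, ih]
    have hcomm : Commute (∑ i ∈ Finset.range m, T ^ i) ((T - 1) ^ (r - 1)) :=
      Commute.sum_left _ _ _ fun i _ => ((Commute.refl T).sub_right (Commute.one_right T)).pow_pow i (r - 1)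
    have h1 : (∑ i ∈ Finset.range m, T ^ i) z = 0 := by
      have e : z = ((T - 1) ^ (r - 1)) ((T - 1) y) := by
        rw [← Module.End.mul_apply, ← pow_succ, show r - 1 + 1 = r by omega]
      rw [e, ← Module.End.mul_apply, hcomm.eq, Module.End.mul_apply, hS, map_zero]
    rw [LinearMap.coe_sum, Finset.sum_apply, Finset.sum_congr rfl fun i _ => hfix i, Finset.sum_const,
      Finset.card_range, ← Nat.cast_smul_eq_nsmul k, smul_eq_zero] at h1
    exact h1.resolve_left (Nat.cast_ne_zero.2 hm)
  have hall : ∀ r : ℕ, ((T - 1 : Module.End k M) ^ (r + 1)) y = 0 → (T - 1) y = 0 := by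
    intro r
    induction r with
    | zero => intro h; simpa using h
    | succ r ih => intro h; exact ih (hred _ (by omega) h)
  have h0 : (T - 1) y = 0 := by
    refine hall n ?_
    rw [pow_succ', Module.End.mul_apply, hn, map_zero]
  simpa [sub_eq_zero] using h0

variable [IsAlgClosed k] {A : Type u} [CommRing A] [HopfAlgebra k A] [Algebra.FiniteType k A]

theorem σ_pow (χ : A →ₐ[k] k) (m : ℕ) (a : A) :
    (((σ A χ).toLinearMap : Module.End k A) ^ m) a = σ A (toConv χ ^ m).ofConv a := by
  induction m generalizing a with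
  | zero => rw [pow_zero, pow_zero, σ_one]; rfl
  | succ m ih => rw [pow_succ, Module.End.mul_apply, ih, pow_succ, ← σ_comp]; rfl

/-- Unipotent points have infinite order. -/
theorem eq_one_of_pow_eq_one {χ : A →ₐ[k] k} (hχ : LocUnip χ) {m : ℕ} (hm : m ≠ 0)
    (h : toConv χ ^ m = 1) : toConv χ = 1 := by
  refine WithConv.ofConv_injective (AlgHom.ext fun a => ?_)
  have e : σ A χ a = a := fix_of_pow_fix ((σ A χ).toLinearMap : Module.End k A) hm
    (by rw [σ_pow, h, σ_one]) (hχ a)
  have := congrArg (Coalgebra.counit (R := k) (A := A)) e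
  rw [counit_σ] at this
  rw [WithConv.ofConv_toConv, this]
  simp

variable (V : SSSub k A)

theorem σ_quot (χ : A ⧸ fixI V →ₐ[k] k) (a : A) :
    Ideal.Quotient.mkₐ k (fixI V) (σ A (χ.comp (Ideal.Quotient.mkₐ k (fixI V))) a) =
      σ (A ⧸ fixI V) χ (Ideal.Quotient.mkₐ k (fixI V) a) := by
  rw [σ_apply, σ_apply, fAct_apply, fAct_apply]
  have e : HopfRep.Comod.coact (k := k) (A := A ⧸ fixI V) (Ideal.Quotient.mkₐ k (fixI V) a) =
      TensorProduct.map (Ideal.Quotient.mkₐ k (fixI V)).toLinearMap (Ideal.Quotient.mkₐ k (fixI V)).toLinearMap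
        (HopfRep.Comod.coact (k := k) (A := A) a) :=
    (CoalgHomClass.map_comp_comul_apply (Bialgebra.Quotient.mkBialgHom (R := k) (fixI V)) a).symm
  rw [e]
  induction HopfRep.Comod.coact (k := k) (A := A) a with
  | zero => simp
  | add p q hp hq => simp only [map_add, hp, hq]
  | tmul p q => simp

/-- The fixator is connected. -/
theorem idem_eq (hV : ∀ χ : A →ₐ[k] k, (∀ v ∈ V.sp, σ A χ v = v) → LocUnip χ)
    {e : A ⧸ fixI V} (he : IsIdempotentElem e) : e = 0 ∨ e = 1 := by
  classical
  haveI : IsNoetherianRing (A ⧸ fixI V) := Algebra.FiniteType.isNoetherianRing k _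
  have hfin : {x : A ⧸ fixI V | IsIdempotentElem x}.Finite := by
    refine Set.Finite.of_finite_image (f := fun x => {P : Ideal (A ⧸ fixI V) | P ∈ minimalPrimes _ ∧ x ∈ P}) ?_ ?_
    · refine Set.Finite.subset (minimalPrimes.finite_of_isNoetherianRing (R := A ⧸ fixI V)).powerset ?_
      rintro _ ⟨x, -, rfl⟩ P hP
      exact hP.1
    · intro x hx y hy hxy
      have hkey : ∀ x y : A ⧸ fixI V, IsIdempotentElem x → IsIdempotentElem y →
          (∀ P ∈ minimalPrimes (A ⧸ fixI V), y ∈ P → x ∈ P) → x * y = x := by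
        intro x y hx hy h
        have hnil : IsNilpotent (x * (1 - y)) := by
          rw [← mem_nilradical, nilradical, ← Ideal.sInf_minimalPrimes, Submodule.mem_sInf]
          intro P hP
          by_cases hyP : y ∈ P
          · exact Ideal.mul_mem_right _ P (h P hP hyP)
          · refine Ideal.mul_mem_left P _ ((hP.1.1.mem_or_mem (x := y) (y := 1 - y) ?_).resolve_left hyP)
            rw [mul_sub, mul_one, hy.eq, sub_self]
            exact P.zero_mem
        have h0 : x * (1 - y) = 0 := by
          obtain ⟨n, hn⟩ := hnil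
          have hi : IsIdempotentElem (x * (1 - y)) := hx.mul hy.one_sub
          rw [← hi.pow_succ_eq n, pow_succ, hn, zero_mul]
        rw [mul_sub, mul_one, sub_eq_zero] at h0
        exact h0.symm
      have h1 := hkey x y hx hy fun P hP hyP => (Set.ext_iff.1 hxy P |>.2 ⟨hP, hyP⟩).2
      have h2 := hkey y x hy hx fun P hP hxP => (Set.ext_iff.1 hxy P |>.1 ⟨hP, hxP⟩).2
      rw [← h1, mul_comm, h2]
  have hval : ∀ χ : A ⧸ fixI V →ₐ[k] k, χ e = Coalgebra.counit (R := k) e := by
    intro χ
    set T : Module.End k (A ⧸ fixI V) := (σ (A ⧸ fixI V) χ).toLinearMap with hT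
    have hidem : ∀ i : ℕ, IsIdempotentElem ((T ^ i) e) := fun i => by
      induction i with
      | zero => exact he
      | succ i ih => rw [pow_succ', Module.End.mul_apply]; exact ih.map (σ (A ⧸ fixI V) χ)
    obtain ⟨i, j, hij, heq⟩ : ∃ i j : ℕ, i < j ∧ (T ^ i) e = (T ^ j) e := by
      haveI := hfin.to_subtype
      obtain ⟨i, j, hne, heq⟩ := Finite.exists_ne_map_eq_of_infinite
        (fun i : ℕ => (⟨(T ^ i) e, hidem i⟩ : {x : A ⧸ fixI V // x ∈ {x : A ⧸ fixI V | IsIdempotentElem x}}))
      rcases hne.lt_or_gt with h | h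
      · exact ⟨i, j, h, congrArg Subtype.val heq⟩
      · exact ⟨j, i, h, (congrArg Subtype.val heq).symm⟩
    have hTinj : Function.Injective T := (σEquiv (R := A ⧸ fixI V) (toConv χ)).injective
    have hpow : (T ^ (j - i)) e = e := by
      have hiinj : Function.Injective (T ^ i : Module.End k (A ⧸ fixI V)) := by
        rw [Module.End.coe_pow]
        exact hTinj.iterate i
      apply hiinj
      rw [← Module.End.mul_apply, ← pow_add, show i + (j - i) = j by omega, ← heq]
    have hfix : T e = e := by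
      refine fix_of_pow_fix T (by omega) hpow ?_
      obtain ⟨a, rfl⟩ := Ideal.Quotient.mkₐ_surjective k (fixI V) e
      obtain ⟨n, hn⟩ := hV (χ.comp (Ideal.Quotient.mkₐ k (fixI V))) ((kills_iff V _).1 fun x hx => by
        rw [AlgHom.comp_apply, Ideal.Quotient.mkₐ_eq_mk, Ideal.Quotient.eq_zero_iff_mem.2 hx, map_zero]) a
      refine ⟨n, ?_⟩
      have hcomm : ∀ (n : ℕ) (b : A), ((T - 1) ^ n) (Ideal.Quotient.mkₐ k (fixI V) b) =
          Ideal.Quotient.mkₐ k (fixI V) ((nn (χ.comp (Ideal.Quotient.mkₐ k (fixI V))) ^ n) b) := by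
        intro n
        induction n with
        | zero => intro b; rfl
        | succ n ih =>
          intro b
          rw [pow_succ, Module.End.mul_apply, pow_succ, Module.End.mul_apply, ← ih]
          congr 1
          change σ (A ⧸ fixI V) χ _ - _ = Ideal.Quotient.mkₐ k (fixI V) (σ A _ b - b)
          rw [map_sub, σ_quot, Module.End.one_apply]
      rw [hcomm, hn, map_zero]
    have := congrArg (Coalgebra.counit (R := k) (A := A ⧸ fixI V)) hfix
    rw [hT, AlgHom.toLinearMap_apply, counit_σ] at this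
    exact this
  have heq : e = algebraMap k _ (Coalgebra.counit (R := k) e) :=
    sub_eq_zero.1 (CartierRed.eq_zero_of_forall_point (k := k) fun χ => by
      rw [map_sub, hval, AlgHom.commutes]; simp)
  have hc : IsIdempotentElem (Coalgebra.counit (R := k) e) := he.map (Bialgebra.counitAlgHom k (A ⧸ fixI V))
  rcases IsIdempotentElem.iff_eq_zero_or_one.1 hc with h | h
  · exact Or.inl (by rw [heq, h, map_zero])
  · exact Or.inr (by rw [heq, h, map_one])

/-- The fixator is normal. -/
theorem isNormal_fixI : SGA3.IsNormalHopfIdeal k A (fixI V) := by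
  intro R _ _ g h hh a ha
  have e : WithConv.toConv (Dyn.conv3 k A g h (g.comp (HopfAlgebra.antipodeAlgHom k A))) =
      toConv g * toConv h * pinv (toConv g) := by
    rw [toConv_conv3]; rfl
  change (toConv (Dyn.conv3 k A g h (g.comp (HopfAlgebra.antipodeAlgHom k A)))).ofConv a = 0
  rw [e]
  let g₀ : A →ₐ[k] A ⊗[k] (A ⧸ fixI V) := Algebra.TensorProduct.includeLeft
  let h₀ : A →ₐ[k] A ⊗[k] (A ⧸ fixI V) :=
    (Algebra.TensorProduct.includeRight : A ⧸ fixI V →ₐ[k] A ⊗[k] (A ⧸ fixI V)).comp (Ideal.Quotient.mkₐ k (fixI V))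
  let φ : A ⊗[k] (A ⧸ fixI V) →ₐ[k] R :=
    Algebra.TensorProduct.lift g (Ideal.Quotient.liftₐ (fixI V) h hh) fun _ _ => Commute.all _ _
  haveI : Algebra.FiniteType k (A ⧸ fixI V) :=
    Algebra.FiniteType.of_surjective (Ideal.Quotient.mkₐ k (fixI V)) Ideal.Quotient.mk_surjective
  haveI : Algebra.FiniteType k (A ⊗[k] (A ⧸ fixI V)) := Algebra.FiniteType.trans (S := A) inferInstance inferInstance
  have hpt : (toConv g₀ * toConv h₀ * pinv (toConv g₀)).ofConv a = 0 := by
    refine CartierRed.eq_zero_of_forall_point (k := k) fun ψ => ?_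
    have e2 : toConv (ψ.comp (toConv g₀ * toConv h₀ * pinv (toConv g₀)).ofConv) =
        toConv (ψ.comp g₀) * toConv (ψ.comp h₀) * pinv (toConv (ψ.comp g₀)) := by
      rw [Groth.L01.NormalHopf.post_mul, Groth.L01.NormalHopf.post_mul]; rfl
    change (toConv (ψ.comp (toConv g₀ * toConv h₀ * pinv (toConv g₀)).ofConv)).ofConv a = 0
    rw [e2]
    refine (kills_iff V _).2 (fun v hv => ?_) a ha
    rw [← σ_comp, ← σ_comp]
    have hv' : σ A (pinv (toConv (ψ.comp g₀))).ofConv v ∈ V.sp := by
      rw [σ_apply]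
      exact fAct_mem_of_isSubcomod V.sub _ hv
    rw [show σ A (toConv (ψ.comp h₀)).ofConv (σ A (pinv (toConv (ψ.comp g₀))).ofConv v) =
      σ A (pinv (toConv (ψ.comp g₀))).ofConv v from (kills_iff V _).1 (fun x hx => by
        rw [WithConv.ofConv_toConv]
        simp [h₀, Ideal.Quotient.eq_zero_iff_mem.2 hx]) _ hv', σ_comp, mul_pinv, σ_one]
  have eg : φ.comp g₀ = g := AlgHom.ext fun x => by simp [φ, g₀]
  have eh : φ.comp h₀ = h := AlgHom.ext fun x => by simp [φ, h₀] <;> rfl
  have e3 : toConv (φ.comp (toConv g₀ * toConv h₀ * pinv (toConv g₀)).ofConv) =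
      toConv g * toConv h * pinv (toConv g) := by
    rw [Groth.L01.NormalHopf.post_mul, Groth.L01.NormalHopf.post_mul]
    simp only [eg, eh]
    congr 2
    rw [← eg]
    rfl
  rw [← e3, WithConv.ofConv_toConv, AlgHom.comp_apply, hpt, map_zero]

/-- If the fixator is trivial, the coefficients generate. -/
theorem isLinearlyReductive_of_fixI_eq [IsDomain A] (h : fixI V = aug (k := k) (A := A)) :
    HopfRep.IsLinearlyReductive k A := by
  haveI := V.fin
  letI := ComodSub.Comod.restr (inferInstance : HopfRep.Comod k A A) V.sp V.sub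
  refine isLinearlyReductive_of_semisimple (V := V.sp) (isSemisimpleComod_sp V) (generates_of_top V ?_)
  rw [← Groth.L01.NormalHopf.coinv_augIdealSpan (isHopfSubalgebra_Bsub V), eq_top_iff]
  intro x _
  rw [Groth.L01.NormalHopf.mem_coinv]
  have hq : (Ideal.Quotient.mkₐ k (fixI V)).toLinearMap =
      (Algebra.linearMap k (A ⧸ fixI V)).comp (Coalgebra.counit (R := k) (A := A)) := by
    refine LinearMap.ext fun a => ?_
    rw [LinearMap.comp_apply, Algebra.linearMap_apply, AlgHom.toLinearMap_apply,
      ← AlgHom.commutes (Ideal.Quotient.mkₐ k (fixI V)), Ideal.Quotient.mkₐ_eq_mk, Ideal.Quotient.eq, h]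
    change Coalgebra.counit (R := k) (a - algebraMap k A _) = 0
    rw [map_sub, Bialgebra.counit_algebraMap, sub_self]
  change TensorProduct.map LinearMap.id (Ideal.Quotient.mkₐ k (fixI V)).toLinearMap (Coalgebra.comul (R := k) x) =
    x ⊗ₜ[k] (1 : A ⧸ fixI V)
  rw [hq]
  change ((Algebra.linearMap k (A ⧸ fixI V)) ∘ₗ Coalgebra.counit (R := k) (A := A)).lTensor A
    (Coalgebra.comul (R := k) x) = _
  rw [LinearMap.lTensor_comp, LinearMap.comp_apply, Coalgebra.lTensor_counit_comul]
  simp

end Groth.L14.RedLR
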