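import Mathlib.Algebra.Lie.CartanCriterion
import Mathlib.Algebra.Lie.Killing
import Mathlib.Algebra.Lie.TraceForm
import Mathlib.LinearAlgebra.BilinearForm.Properties
import Mathlib.LinearAlgebra.Trace

/-!
# An invariant vector outside a submodule containing all brackets (Weyl)
-/

set_option autoImplicit false
universe u v w

open Module LieModule LieAlgebra

namespace Groth.L14.RedLR

variable {k : Type u} [Field k] [CharZero k] {L : Type v} [LieRing L] [LieAlgebra k L] [Module.Finite k L]

/-- Ideals of a semisimple algebra are perfect. -/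
theorem ideal_perfect [HasTrivialRadical k L] (I : LieIdeal k L) : ⁅I, I⁆ = I := by
  have hle : ⁅I, I⁆ ≤ I := LieSubmodule.lie_le_left I I
  have hc := LieIdeal.isCompl_killingCompl (K := k) (L := L) ⁅I, I⁆
  set J : LieIdeal k L := I ⊓ LieIdeal.killingCompl k L ⁅I, I⁆ with hJ
  have h1 : ⁅J, J⁆ ≤ ⁅I, I⁆ := LieSubmodule.mono_lie inf_le_left inf_le_left
  have h2 : ⁅J, J⁆ ≤ LieIdeal.killingCompl k L ⁅I, I⁆ := (LieSubmodule.lie_le_left J J).trans inf_le_right
  have h3 : ⁅J, J⁆ = ⊥ := by
    have := le_inf h1 h2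
    rwa [hc.inf_eq_bot, le_bot_iff] at this
  haveI : IsLieAbelian J := (LieSubmodule.lie_abelian_iff_lie_self_eq_bot J).2 h3
  have h4 : J = ⊥ := IsKilling.ideal_eq_bot_of_isLieAbelian J
  refine le_antisymm hle fun x hx => ?_
  obtain ⟨a, ha, b, hb, hab⟩ := (LieSubmodule.mem_sup _ _ _).1 (hc.sup_eq_top ▸ LieSubmodule.mem_top x)
  have hbI : b ∈ I := by
    rw [show b = x - a by rw [← hab, add_sub_cancel_left]]
    exact sub_mem hx (hle ha)
  have : b ∈ J := ⟨hbI, hb⟩
  rw [h4, LieSubmodule.mem_bot] at this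
  rw [← hab, this, add_zero]
  exact ha

section Irr

variable [HasTrivialRadical k L] {E : Type w} [AddCommGroup E] [Module k E] [Module.Finite k E]
  [LieRingModule L E] [LieModule k L E]

/-- An ideal with zero trace form on a submodule containing all brackets acts by zero. -/
theorem ideal_acts_zero (E₀ : LieSubmodule k L E) (h0 : ∀ (x : L) (e : E), ⁅x, e⁆ ∈ E₀) (I : LieIdeal k L)
    (hI : ∀ x ∈ I, ∀ y ∈ I, traceForm k L E₀ x y = 0) {x : L} (hx : x ∈ I) (e : E) : ⁅x, e⁆ = 0 := by
  have htf : traceForm k I E₀ = 0 := by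
    ext ⟨a, ha⟩ ⟨b, hb⟩
    exact hI a ha b hb
  have hnil := isNilpotent_derivedSeries_of_traceForm_eq_zero htf
  obtain ⟨m, hm⟩ := (LieModule.isNilpotent_iff k (derivedSeries k I 1) E₀).1 hnil
  have hD : ∀ a : I, a ∈ derivedSeries k I 1 := by
    intro a
    rw [LieIdeal.derivedSeries_eq_derivedSeriesOfIdeal_comap, LieIdeal.mem_comap, derivedSeriesOfIdeal_succ,
      derivedSeriesOfIdeal_zero, ideal_perfect]
    exact a.2
  let F : ℕ → LieSubmodule k (derivedSeries k I 1) E₀ := fun j =>
    lowerCentralSeries k (derivedSeries k I 1) E₀ j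
  have hstep : ∀ j, ∀ a ∈ I, ∀ u : E₀, u ∈ F j → ∀ h : ⁅a, (u : E)⁆ ∈ E₀, (⟨_, h⟩ : E₀) ∈ F (j + 1) := by
    intro j a ha u hu h
    simp only [F, lowerCentralSeries_succ]
    exact LieSubmodule.lie_mem_lie (x := (⟨⟨a, ha⟩, hD _⟩ : derivedSeries k I 1)) (LieSubmodule.mem_top _) hu
  have key : ∀ j, ∀ a ∈ I, ∀ e : E, (⟨⁅a, e⁆, h0 a e⟩ : E₀) ∈ F j := by
    intro j
    induction j with
    | zero => intro a _ e; simp [F]
    | succ j ih =>
      intro a ha
      rw [← ideal_perfect I] at ha
      intro e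
      let S : Submodule k L :=
        { carrier := {z | ∀ e : E, (⟨⁅z, e⁆, h0 z e⟩ : E₀) ∈ F (j + 1)}
          add_mem' := fun {p q} hp hq e => by
            have := add_mem (hp e) (hq e)
            convert this using 1
            exact Subtype.ext (add_lie p q e)
          zero_mem' := fun e => by
            convert zero_mem (F (j + 1)) using 1
            exact Subtype.ext (zero_lie e)
          smul_mem' := fun c p hp e => by
            have := (F (j + 1)).smul_mem c (hp e)
            have e' : (⟨⁅c • p, e⁆, h0 (c • p) e⟩ : E₀) = c • ⟨⁅p, e⁆, h0 p e⟩ := Subtype.ext (smul_lie c p e)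
            rw [e']
            exact this }
      have hS : (⁅I, I⁆ : LieIdeal k L).toSubmodule ≤ S := by
        rw [LieSubmodule.lieIdeal_oper_eq_linear_span', Submodule.span_le]
        rintro z ⟨p, hp, q, hq, rfl⟩ e
        have h₁ := hstep j p hp _ (ih q hq e) (h0 p _)
        have h₂ := hstep j q hq _ (ih p hp e) (h0 q _)
        convert sub_mem h₁ h₂ using 1
        exact Subtype.ext (lie_lie p q e)
      exact hS ha e
  have := key m x hx e
  simp only [F, hm, LieSubmodule.mem_bot] at this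
  exact congrArg Subtype.val this

/-- The irreducible case. -/
theorem exists_invariant_of_irr (E₀ : LieSubmodule k L E) (hne : E₀ ≠ ⊤)
    (h0 : ∀ (x : L) (e : E), ⁅x, e⁆ ∈ E₀)
    (hirr : ∀ M : LieSubmodule k L E, M ≤ E₀ → M = ⊥ ∨ M = E₀) :
    ∃ v : E, v ∉ E₀ ∧ ∀ x : L, ⁅x, v⁆ = 0 := by
  classical
  obtain ⟨v₀, hv₀⟩ : ∃ v, v ∉ E₀ := by
    by_contra h
    push Not at h
    exact hne (eq_top_iff.2 fun v _ => h v)
  let B : LinearMap.BilinForm k L := traceForm k L E₀
  have hinv : ∀ x y z : L, B ⁅x, y⁆ z = B x ⁅y, z⁆ := fun x y z => traceForm_apply_lie_apply k L E₀ x y z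
  let K : LieIdeal k L :=
    { toSubmodule := LinearMap.ker B
      lie_mem := fun {x m} hm => by
        rw [AddSubsemigroup.mem_carrier, AddSubmonoid.mem_toSubsemigroup, Submodule.mem_toAddSubmonoid,
          LinearMap.mem_ker] at hm ⊢
        ext z
        rw [← lie_skew, map_neg, LinearMap.neg_apply, hinv, LinearMap.congr_fun hm]
        simp }
  have hK : ∀ x ∈ K, ∀ e : E, ⁅x, e⁆ = 0 := fun x hx e =>
    ideal_acts_zero E₀ h0 K (fun a ha b _ => LinearMap.congr_fun (LinearMap.mem_ker.1 ha) b) hx e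
  obtain ⟨P, hP⟩ := (LinearMap.ker B).exists_isCompl
  have hdec : ∀ z : L, ∃ p ∈ P, ∃ c ∈ K, c + p = z := fun z => by
    obtain ⟨c, hc, p, hp, rfl⟩ := Submodule.mem_sup.1 (hP.sup_eq_top ▸ Submodule.mem_top : z ∈ LinearMap.ker B ⊔ P)
    exact ⟨p, hp, c, hc, rfl⟩
  by_cases hP0 : P = ⊥
  · refine ⟨v₀, hv₀, fun x => ?_⟩
    obtain ⟨p, hp, c, hc, rfl⟩ := hdec x
    rw [hP0, Submodule.mem_bot] at hp
    rw [hp, add_zero]
    exact hK c hc v₀
  · -- the Casimir endomorphism
    have hBs : ∀ a b : L, B a b = B b a := fun a b => traceForm_comm k L E₀ a b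
    have hnd : (B.restrict P).Nondegenerate := by
      refine (LinearMap.IsSymm.isRefl ?_).nondegenerate_iff_separatingLeft.2 ?_
      · exact ⟨fun a b => hBs a b⟩
      intro p hp
      have hker : (p : L) ∈ LinearMap.ker B := by
        rw [LinearMap.mem_ker]
        ext z
        obtain ⟨q, hq, c, hc, rfl⟩ := hdec z
        have e1 : B (p : L) c = 0 := by rw [hBs]; exact LinearMap.congr_fun (LinearMap.mem_ker.1 hc) p
        have e2 : B (p : L) q = 0 := hp ⟨q, hq⟩
        rw [map_add, e1, e2, add_zero, LinearMap.zero_apply]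
      have := Submodule.mem_inf.2 ⟨hker, p.2⟩
      rw [hP.inf_eq_bot, Submodule.mem_bot] at this
      exact Subtype.ext this
    let b := finBasis k P
    let d := LinearMap.BilinForm.dualBasis (B.restrict P) hnd b
    let φ := toEnd k L E
    have hφK : ∀ x ∈ K, φ x = 0 := fun x hx => LinearMap.ext fun e => hK x hx e
    have hbd : ∀ i j, B (d i : L) (b j : L) = if j = i then 1 else 0 := fun i j =>
      LinearMap.BilinForm.apply_dualBasis_left (B := B.restrict P) hnd b i j
    have hexp : ∀ z : L, φ z = ∑ j, B z (d j : L) • φ (b j : L) ∧ φ z = ∑ j, B (b j : L) z • φ (d j : L) := by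
      intro z
      obtain ⟨p, hp, c, hc, rfl⟩ := hdec z
      have hz : φ (c + p) = φ p := by rw [map_add, hφK c hc, zero_add]
      constructor
      · rw [hz]
        conv_lhs => rw [show p = ((∑ j, b.repr ⟨p, hp⟩ j • b j : P) : L) by rw [b.sum_repr]]
        rw [Submodule.coe_sum, map_sum]
        refine Finset.sum_congr rfl fun j _ => ?_
        rw [Submodule.coe_smul, map_smul]
        congr 1
        rw [map_add, LinearMap.add_apply, show B c = 0 from LinearMap.mem_ker.1 hc, LinearMap.zero_apply,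
          zero_add]
        conv_rhs => rw [show p = ((∑ i, b.repr ⟨p, hp⟩ i • b i : P) : L) by rw [b.sum_repr]]
        rw [Submodule.coe_sum, map_sum, LinearMap.coe_sum, Finset.sum_apply, Finset.sum_eq_single j]
        · rw [Submodule.coe_smul, map_smul, LinearMap.smul_apply, hBs, hbd, if_pos rfl, smul_eq_mul, mul_one]
        · intro i _ hi
          rw [Submodule.coe_smul, map_smul, LinearMap.smul_apply, hBs, hbd, if_neg hi, smul_zero]
        · simp
      · rw [hz]
        conv_lhs => rw [show p = ((∑ j, d.repr ⟨p, hp⟩ j • d j : P) : L) by rw [d.sum_repr]]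
        rw [Submodule.coe_sum, map_sum]
        refine Finset.sum_congr rfl fun j _ => ?_
        rw [Submodule.coe_smul, map_smul]
        congr 1
        rw [map_add, hBs _ c, show B c = 0 from LinearMap.mem_ker.1 hc, LinearMap.zero_apply, zero_add,
          LinearMap.BilinForm.dualBasis_repr_apply, hBs]
        rfl
    let C : Module.End k E := ∑ i, φ (b i : L) * φ (d i : L)
    have hcomm : ∀ y, φ y * C = C * φ y := by
      intro y
      refine sub_eq_zero.1 ?_
      have e1 : φ y * C - C * φ y =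
          (∑ i, φ ⁅y, (b i : L)⁆ * φ (d i : L)) + ∑ i, φ (b i : L) * φ ⁅y, (d i : L)⁆ := by
        simp only [C, Finset.mul_sum, Finset.sum_mul, ← Finset.sum_add_distrib, ← Finset.sum_sub_distrib]
        refine Finset.sum_congr rfl fun i _ => ?_
        simp only [φ, LieHom.map_lie, LieRing.of_associative_ring_bracket]
        noncomm_ring
      have e2 : ∀ i, φ ⁅y, (b i : L)⁆ * φ (d i : L) =
          ∑ j, B ⁅y, (b i : L)⁆ (d j : L) • (φ (b j : L) * φ (d i : L)) := fun i => by
        conv_lhs => rw [(hexp ⁅y, (b i : L)⁆).1, Finset.sum_mul]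
        exact Finset.sum_congr rfl fun j _ => smul_mul_assoc _ _ _
      have e3 : ∀ i, φ (b i : L) * φ ⁅y, (d i : L)⁆ =
          ∑ j, B (b j : L) ⁅y, (d i : L)⁆ • (φ (b i : L) * φ (d j : L)) := fun i => by
        conv_lhs => rw [(hexp ⁅y, (d i : L)⁆).2, Finset.mul_sum]
        exact Finset.sum_congr rfl fun j _ => mul_smul_comm _ _ _
      rw [e1, Finset.sum_congr rfl fun i _ => e2 i, Finset.sum_congr rfl fun i _ => e3 i,
        Finset.sum_comm, ← Finset.sum_add_distrib]
      refine Finset.sum_eq_zero fun j _ => ?_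
      rw [← Finset.sum_add_distrib]
      refine Finset.sum_eq_zero fun i _ => ?_
      rw [← add_smul, ← lie_skew y (b i : L), map_neg, LinearMap.neg_apply, hinv, neg_add_cancel, zero_smul]
    have hC0 : ∀ e, C e ∈ E₀ := fun e => by
      simp only [C, LinearMap.coe_sum, Finset.sum_apply, Module.End.mul_apply]
      exact sum_mem fun i _ => h0 _ _
    let Kc : LieSubmodule k L E :=
      { toSubmodule := LinearMap.ker C
        lie_mem := fun {x m} hm => by
          rw [AddSubsemigroup.mem_carrier, AddSubmonoid.mem_toSubsemigroup, Submodule.mem_toAddSubmonoid,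
            LinearMap.mem_ker] at hm ⊢
          have := LinearMap.congr_fun (hcomm x) m
          rw [Module.End.mul_apply, Module.End.mul_apply, hm, map_zero] at this
          exact this.symm }
    let C₀ : Module.End k E₀ := C.restrict (p := (E₀ : Submodule k E)) (q := (E₀ : Submodule k E))
      fun e _ => hC0 e
    have htr : LinearMap.trace k E₀ C₀ = (finrank k P : k) := by
      have : C₀ = ∑ i, toEnd k L E₀ (b i : L) ∘ₗ toEnd k L E₀ (d i : L) := by
        refine LinearMap.ext fun e => Subtype.ext ?_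
        change C (e : E) = _
        simp [C, φ, LinearMap.coe_sum, Finset.sum_apply, Submodule.coe_sum]
      rw [this, map_sum]
      simp_rw [← traceForm_apply_apply]
      rw [Finset.sum_congr rfl fun i _ => (hBs _ _).trans (hbd i i)]
      simp
    have hbot : Kc ⊓ E₀ = ⊥ := by
      refine (hirr _ inf_le_right).resolve_right fun h => ?_
      have : C₀ = 0 := LinearMap.ext fun e => Subtype.ext (by
        have : (e : E) ∈ Kc := (h.ge e.2).1
        exact this)
      rw [this, map_zero] at htr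
      exact hP0 (Submodule.finrank_eq_zero.1 (by exact_mod_cast htr.symm))
    have hinj : Function.Injective C₀ := by
      rw [← LinearMap.ker_eq_bot, Submodule.eq_bot_iff]
      intro e he
      have : (e : E) ∈ Kc ⊓ E₀ := ⟨congrArg Subtype.val (LinearMap.mem_ker.1 he), e.2⟩
      rw [hbot, LieSubmodule.mem_bot] at this
      exact Subtype.ext this
    obtain ⟨u, hu⟩ := (LinearMap.injective_iff_surjective.1 hinj) ⟨C v₀, hC0 v₀⟩
    refine ⟨v₀ - u, fun h => hv₀ (by simpa using add_mem h u.2), fun x => ?_⟩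
    have hv : v₀ - (u : E) ∈ Kc := by
      change C (v₀ - u) = 0
      rw [map_sub, show C (u : E) = (C₀ u : E) from rfl, hu]
      exact sub_self _
    have : ⁅x, v₀ - (u : E)⁆ ∈ Kc ⊓ E₀ := ⟨Kc.lie_mem hv, h0 x _⟩
    rw [hbot, LieSubmodule.mem_bot] at this
    exact this

end Irr

/-- Weyl's lemma. -/
theorem exists_invariant [HasTrivialRadical k L] {E : Type w} [AddCommGroup E] [Module k E] [Module.Finite k E]
    [LieRingModule L E] [LieModule k L E] (E₀ : LieSubmodule k L E) (hne : E₀ ≠ ⊤)
    (h0 : ∀ (x : L) (e : E), ⁅x, e⁆ ∈ E₀) : ∃ v : E, v ∉ E₀ ∧ ∀ x : L, ⁅x, v⁆ = 0 := by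
  obtain ⟨n, hn⟩ : ∃ n, finrank k E ≤ n := ⟨_, le_rfl⟩
  induction n generalizing E with
  | zero =>
    refine (hne ?_).elim
    haveI : Subsingleton E := (finrank_zero_iff (R := k)).1 (by omega)
    exact eq_top_iff.2 fun v _ => Subsingleton.elim (0 : E) v ▸ zero_mem _
  | succ n ih =>
    by_cases hirr : ∀ M : LieSubmodule k L E, M ≤ E₀ → M = ⊥ ∨ M = E₀
    · exact exists_invariant_of_irr E₀ hne h0 hirr
    push Not at hirr
    obtain ⟨M, hM, hM0, hM1⟩ := hirr
    let π : E →ₗ⁅k,L⁆ E ⧸ M := LieSubmodule.Quotient.mk' M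
    have hπ : Function.Surjective π := LieSubmodule.Quotient.surjective_mk' M
    have hker : ∀ e, π e = 0 ↔ e ∈ M := fun e => LieSubmodule.Quotient.mk_eq_zero'
    have hMr : 0 < finrank k (M : Submodule k E) := by
      rw [Nat.pos_iff_ne_zero, ne_eq, Submodule.finrank_eq_zero]
      exact fun h => hM0 ((LieSubmodule.toSubmodule_eq_bot M).1 h)
    have hq : finrank k (E ⧸ M) ≤ n := by
      have := Submodule.finrank_quotient_add_finrank (M : Submodule k E)
      change finrank k (E ⧸ M) + _ = _ at this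
      omega
    have hmap : ∀ e, π e ∈ E₀.map π → e ∈ E₀ := by
      rintro e ⟨f, hf, hfe⟩
      have : e - f ∈ M := (hker _).1 (by rw [map_sub, sub_eq_zero]; exact hfe.symm)
      simpa using add_mem (hM this) hf
    obtain ⟨v₀, hv₀⟩ : ∃ v, v ∉ E₀ := by
      by_contra h
      push Not at h
      exact hne (eq_top_iff.2 fun v _ => h v)
    obtain ⟨w, hw, hwinv⟩ := ih (E := E ⧸ M) (E₀.map π)
      (fun h => hv₀ (hmap v₀ (h ▸ LieSubmodule.mem_top _)))
      (fun x e => by
        obtain ⟨e, rfl⟩ := hπ e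
        exact ⟨⁅x, e⁆, h0 x e, LieModuleHom.map_lie π x e⟩) hq
    obtain ⟨v, rfl⟩ := hπ w
    have hvE : v ∉ E₀ := fun h => hw ⟨v, h, rfl⟩
    have hvM : ∀ x : L, ⁅x, v⁆ ∈ M := fun x => (hker _).1 (by rw [LieModuleHom.map_lie, hwinv])
    let E₁ : LieSubmodule k L E :=
      { toSubmodule := (k ∙ v) ⊔ (M : Submodule k E)
        lie_mem := fun {x m} hm => by
          rw [AddSubsemigroup.mem_carrier, AddSubmonoid.mem_toSubsemigroup, Submodule.mem_toAddSubmonoid] at hm ⊢
          obtain ⟨a, ha, b, hb, rfl⟩ := Submodule.mem_sup.1 hm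
          obtain ⟨c, rfl⟩ := Submodule.mem_span_singleton.1 ha
          rw [lie_add, lie_smul]
          exact Submodule.mem_sup_right (add_mem (M.smul_mem c (hvM x)) (M.lie_mem hb)) }
    have hME₁ : M ≤ E₁ := fun m hm => Submodule.mem_sup_right hm
    have hE₁ : finrank k E₁ ≤ n := by
      have h1 : finrank k ((k ∙ v) ⊔ (M : Submodule k E) : Submodule k E) ≤
          1 + finrank k (M : Submodule k E) := by
        refine (Submodule.finrank_add_le_finrank_add_finrank _ _).trans ?_
        gcongr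
        exact (finrank_span_le_card ({v} : Set E)).trans (by simp)
      have h2 : finrank k (M : Submodule k E) < finrank k (E₀ : Submodule k E) :=
        Submodule.finrank_lt_finrank_of_lt (lt_of_le_of_ne hM fun h => hM1 (LieSubmodule.toSubmodule_injective h))
      have h3 : finrank k (E₀ : Submodule k E) < finrank k E :=
        Submodule.finrank_lt (fun h => hne ((LieSubmodule.toSubmodule_eq_top E₀).1 h))
      change finrank k ((k ∙ v) ⊔ (M : Submodule k E) : Submodule k E) ≤ n
      omega
    obtain ⟨w, hw1, hw2⟩ := ih (E := E₁) (M.comap E₁.incl)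
      (fun h => hvE (hM ((LieSubmodule.mem_comap).1 (h ▸ LieSubmodule.mem_top
        (⟨v, Submodule.mem_sup_left (Submodule.mem_span_singleton_self v)⟩ : E₁)))))
      (fun x e => by
        rw [LieSubmodule.mem_comap]
        obtain ⟨a, ha, b, hb, he⟩ := Submodule.mem_sup.1 e.2
        obtain ⟨c, rfl⟩ := Submodule.mem_span_singleton.1 ha
        change ⁅x, (e : E)⁆ ∈ M
        rw [← he, lie_add, lie_smul]
        exact add_mem (M.smul_mem c (hvM x)) (M.lie_mem hb)) hE₁
    refine ⟨(w : E), fun h => hw1 ?_, fun x => congrArg Subtype.val (hw2 x)⟩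
    rw [LieSubmodule.mem_comap]
    change (w : E) ∈ M
    obtain ⟨a, ha, b, hb, he⟩ := Submodule.mem_sup.1 w.2
    obtain ⟨c, rfl⟩ := Submodule.mem_span_singleton.1 ha
    by_cases hc : c = 0
    · rw [← he, hc, zero_smul, zero_add]
      exact hb
    · refine (hvE ?_).elim
      have : c • v ∈ E₀ := by
        have := sub_mem h (hM hb)
        rwa [← he, add_sub_cancel_right] at this
      simpa [smul_smul, inv_mul_cancel₀ hc] using E₀.smul_mem c⁻¹ this

end Groth.L14.RedLR
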